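import Groth.Agent.MadRed.K187.WeightMat
import Groth.Agent.HopfRep.K190.ChevPID
import Groth.Agent.Sga3B.RootTors878b

/-!
# Weights of a homomorphism `D(M) → G` on a faithful representation

`exists_gen`: an affine algebraic group over a field has a multiplicative matrix whose entries
generate its coordinate ring.  `dec_wt`: for `p : A →ₐc[k] k[M]` the coefficient matrices of
`p (m i j)` are orthogonal idempotents with sum `1`.
-/

set_option autoImplicit false

open TensorProduct WithConv Polynomial
open Groth.Agent.Books.DynBasic (mapPt mapPt_apply mapPt_injective)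
open Groth.Agent.Sga3B.RootOrb
open Groth.Agent.Sga3C.MatComod

universe u

namespace K187.TorWt

section Gen

/-- a multiplicative matrix generating the Hopf algebra -/
theorem exists_gen (k : Type u) [Field k] (A : Type u) [CommRing A] [HopfAlgebra k A]
    [Algebra.FiniteType k A] : ∃ (n : Type) (_ : Fintype n) (_ : DecidableEq n) (m : Matrix n n A),
      IsMult k m ∧ Algebra.adjoin k (Set.range fun x : n × n => m x.1 x.2) = ⊤ := by
  obtain ⟨d, e, w, m, hm, hw, -, -, -, hgen⟩ :=
    K190.ChevPID.exists_mult k A A (BialgHom.id k A)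
  refine ⟨Fin d ⊕ Fin e, inferInstance, inferInstance, m, hm, ?_⟩
  rw [eq_top_iff, ← hgen, Algebra.adjoin_le_iff]
  rintro _ ⟨j, rfl⟩
  -- `w j = ∑ ε(w i) m i j`
  have h1 := congrArg (TensorProduct.lid k A) (Coalgebra.rTensor_counit_comul (R := k) (w j))
  rw [hw, map_sum, map_sum, TensorProduct.lid_tmul, one_smul] at h1
  let S : Subalgebra k A :=
    Algebra.adjoin k (Set.range fun x : (Fin d ⊕ Fin e) × (Fin d ⊕ Fin e) => m x.1 x.2)
  have hS : ∀ i j, m i j ∈ S := fun i j => Algebra.subset_adjoin ⟨(i, j), rfl⟩
  change w j ∈ S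
  rw [← h1]
  refine sum_mem fun i _ => ?_
  rw [LinearMap.rTensor_tmul, TensorProduct.lid_tmul]
  exact S.smul_mem (hS i j) _

end Gen

section Rep

variable {k : Type u} [Field k] {A : Type u} [CommRing A] [HopfAlgebra k A]
variable {n : Type} [Fintype n] [DecidableEq n] {m : Matrix n n A}
variable {C : Type u} [CommRing C] [Algebra k C] {D : Type u} [CommRing D] [Algebra k D]

/-- the representation of the points attached to a multiplicative matrix -/
noncomputable def rep (hm : IsMult k m) (C : Type u) [CommRing C] [Algebra k C] :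
    WithConv (A →ₐ[k] C) →* Matrix n n C where
  toFun g := Matrix.of fun i j => g.ofConv (m i j)
  map_one' := by
    ext i j
    rw [Matrix.of_apply, Matrix.one_apply, AlgHom.convOne_def]
    change algebraMap k C (Coalgebra.counit (R := k) (m i j)) = _
    rw [hm.counit]
    split_ifs
    · exact map_one _
    · exact map_zero _
  map_mul' g h := by
    ext i j
    rw [Matrix.of_apply, Matrix.mul_apply, AlgHom.convMul_def]
    change (Algebra.TensorProduct.lmul' k) ((Algebra.TensorProduct.map g.ofConv h.ofConv)
      (Coalgebra.comul (R := k) (m i j))) = _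
    rw [hm.comul, map_sum, map_sum]
    exact Finset.sum_congr rfl fun l _ => by
      rw [Algebra.TensorProduct.map_tmul, Algebra.TensorProduct.lmul'_apply_tmul]
      rfl

theorem rep_apply (hm : IsMult k m) (g : WithConv (A →ₐ[k] C)) (i j : n) :
    rep hm C g i j = g.ofConv (m i j) := rfl

theorem rep_injective (hm : IsMult k m)
    (hgen : Algebra.adjoin k (Set.range fun x : n × n => m x.1 x.2) = ⊤) :
    Function.Injective (rep hm C) := by
  intro g h hgh
  apply WithConv.ofConv_injective
  apply AlgHom.ext_of_adjoin_eq_top hgen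
  rintro _ ⟨⟨i, j⟩, rfl⟩
  exact congrFun (congrFun hgh i) j

theorem rep_mapPt (hm : IsMult k m) (φ : C →ₐ[k] D) (g : WithConv (A →ₐ[k] C)) :
    rep hm D (mapPt φ g) = φ.mapMatrix (rep hm C g) := rfl

end Rep

section Wt

variable {k : Type u} [Field k] {A : Type u} [CommRing A] [HopfAlgebra k A]
variable {n : Type} [Fintype n] [DecidableEq n] {m : Matrix n n A}
variable {M : Type} [AddCommGroup M] [DecidableEq M]
variable (p : A →ₐc[k] MonoidAlgebra k (Multiplicative M))

variable (m) in
/-- the coefficient matrices -/
noncomputable def wt (a : M) : Matrix n n k :=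
  Matrix.of fun i j => (p (m i j)).coeff (Multiplicative.ofAdd a)

variable (m) in
/-- the set of weights -/
noncomputable def wts : Finset M :=
  (Finset.univ.biUnion fun x : n × n => (p (m x.1 x.2)).coeff.support).image Multiplicative.toAdd

omit [DecidableEq n] in
theorem mem_wts (a : M) : a ∈ wts m p ↔ wt m p a ≠ 0 := by
  rw [wts, Finset.mem_image]
  constructor
  · rintro ⟨b, hb, rfl⟩ h
    obtain ⟨⟨i, j⟩, -, hij⟩ := Finset.mem_biUnion.1 hb
    rw [Finsupp.mem_support_iff] at hij
    exact hij (congrFun (congrFun h i) j)
  · intro h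
    by_contra hcon
    push Not at hcon
    apply h
    ext i j
    by_contra h1
    apply hcon (Multiplicative.ofAdd a) _ rfl
    rw [Finset.mem_biUnion]
    exact ⟨(i, j), Finset.mem_univ _, Finsupp.mem_support_iff.2 h1⟩

/-- a coefficient, as a linear map -/
noncomputable def cf (a : Multiplicative M) : MonoidAlgebra k (Multiplicative M) →ₗ[k] k where
  toFun f := f.coeff a
  map_add' x y := by simp
  map_smul' r x := by simp

omit [DecidableEq M] [AddCommGroup M] in
theorem cf_single (a b : Multiplicative M) (r : k) [Decidable (b = a)] :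
    cf a (MonoidAlgebra.single b r) = if b = a then r else 0 := by
  change (MonoidAlgebra.single b r).coeff a = _
  rw [MonoidAlgebra.coeff_single]
  by_cases h : b = a
  · rw [if_pos h, h, Finsupp.single_eq_same]
  · rw [if_neg h, Finsupp.single_eq_of_ne (Ne.symm h)]

omit [AddCommGroup M] in
/-- the coefficients of the comultiplication of `k[M]` -/
theorem cf_comul (a b : Multiplicative M) (f : MonoidAlgebra k (Multiplicative M)) :
    TensorProduct.lid k k (TensorProduct.map (cf a) (cf b) (Coalgebra.comul (R := k) f)) =
      if a = b then cf a f else 0 := by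
  induction f using MonoidAlgebra.induction_linear with
  | zero => simp
  | add x y hx hy =>
    rw [map_add, map_add, map_add, hx, hy, map_add]
    split_ifs
    · rfl
    · rw [add_zero]
  | single c r =>
    have h1 : Coalgebra.comul (R := k) (MonoidAlgebra.single c r) =
        MonoidAlgebra.single c 1 ⊗ₜ[k] MonoidAlgebra.single c r := by
      rw [MonoidAlgebra.comul_single, CommSemiring.comul_apply, TensorProduct.map_tmul]
      rfl
    rw [h1, TensorProduct.map_tmul, TensorProduct.lid_tmul, cf_single, cf_single, smul_eq_mul]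
    by_cases hab : a = b
    · subst hab
      rw [if_pos rfl, cf_single]
      split_ifs <;> simp
    · rw [if_neg hab]
      split_ifs with h2 h3
      · exact absurd (h2.symm.trans h3) hab
      · simp
      · simp
      · simp

omit [DecidableEq M] [AddCommGroup M] in
theorem eq_sum (s : Finset (Multiplicative M)) (f : MonoidAlgebra k (Multiplicative M))
    (hs : f.coeff.support ⊆ s) : f = ∑ a ∈ s, MonoidAlgebra.single a (cf a f) := by
  apply MonoidAlgebra.coeff_injective
  rw [MonoidAlgebra.coeff_sum]
  ext b
  rw [Finsupp.finsetSum_apply]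
  simp only [MonoidAlgebra.coeff_single]
  by_cases hb : b ∈ s
  · rw [Finset.sum_eq_single b]
    · rw [Finsupp.single_eq_same]
      rfl
    · intro a _ hab
      exact Finsupp.single_eq_of_ne (Ne.symm hab)
    · exact fun h => absurd hb h
  · rw [Finset.sum_eq_zero]
    · by_contra h
      exact hb (hs (Finsupp.mem_support_iff.2 h))
    · intro a ha
      exact Finsupp.single_eq_of_ne fun h => hb (h ▸ ha)

omit [DecidableEq M] [AddCommGroup M] in
theorem counit_eq (s : Finset (Multiplicative M)) (f : MonoidAlgebra k (Multiplicative M))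
    (hs : f.coeff.support ⊆ s) : Coalgebra.counit (R := k) f = ∑ a ∈ s, cf a f := by
  conv_lhs => rw [eq_sum s f hs]
  rw [map_sum]
  exact Finset.sum_congr rfl fun a _ => by
    rw [MonoidAlgebra.counit_single, CommSemiring.counit_apply]

variable {p}

omit [Fintype n] [DecidableEq n] [DecidableEq M] in
theorem cf_p (a : M) (i j : n) : cf (Multiplicative.ofAdd a) (p (m i j)) = wt m p a i j := rfl

theorem dec_wt (hm : IsMult k m) : WeightMat.Dec (wts m p) (wt m p) := by
  refine ⟨?_, ?_, fun a ha => (mem_wts p a).1 ha⟩
  · intro a _ b _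
    ext i j
    have h1 := cf_comul (Multiplicative.ofAdd a) (Multiplicative.ofAdd b) (p (m i j))
    rw [← CoalgHomClass.map_comp_comul_apply, hm.comul, map_sum, map_sum, map_sum] at h1
    simp only [TensorProduct.map_tmul, TensorProduct.lid_tmul] at h1
    rw [Matrix.mul_apply]
    refine (Eq.trans ?_ h1).trans ?_
    · rfl
    · by_cases hab : a = b
      · rw [if_pos hab, if_pos (congrArg _ hab)]
        rfl
      · rw [if_neg hab, if_neg fun h => hab (Multiplicative.ofAdd.injective h)]
        rfl
  · ext i j
    have h1 : Coalgebra.counit (R := k) (p (m i j)) = Coalgebra.counit (R := k) (m i j) :=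
      CoalgHomClass.counit_comp_apply p (m i j)
    rw [hm.counit, counit_eq ((wts m p).image Multiplicative.ofAdd)] at h1
    · rw [Matrix.sum_apply, Matrix.one_apply, ← h1, Finset.sum_image]
      · rfl
      · intro a _ b _ h
        exact Multiplicative.ofAdd.injective h
    · intro b hb
      rw [Finset.mem_image]
      refine ⟨b.toAdd, ?_, rfl⟩
      rw [wts, Finset.mem_image]
      exact ⟨b, Finset.mem_biUnion.2 ⟨(i, j), Finset.mem_univ _, hb⟩, rfl⟩

variable {C : Type u} [CommRing C] [Algebra k C]

omit [DecidableEq M] in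
theorem evT_eq (t : Multiplicative M →* Cˣ) (s : Finset (Multiplicative M))
    (f : MonoidAlgebra k (Multiplicative M)) (hs : f.coeff.support ⊆ s) :
    evT k t f = ∑ a ∈ s, cf a f • (t a : C) := by
  conv_lhs => rw [eq_sum s f hs]
  rw [map_sum]
  exact Finset.sum_congr rfl fun a _ => by rw [evT_single]

/-- the torus acts through its weights -/
theorem rep_torPt (hm : IsMult k m) (t : Multiplicative M →* kˣ) :
    rep hm k (torPt p t) =
      WeightMat.dg (wts m p) (wt m p) fun a => (t (Multiplicative.ofAdd a) : k) := by
  ext i j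
  rw [rep_apply, torPt_apply, evT_eq t ((wts m p).image Multiplicative.ofAdd), WeightMat.dg,
    Matrix.sum_apply, Finset.sum_image]
  · refine Finset.sum_congr rfl fun a _ => ?_
    rw [cf_p, Matrix.smul_apply, smul_eq_mul, smul_eq_mul, mul_comm]
  · intro a _ b _ h
    exact Multiplicative.ofAdd.injective h
  · intro b hb
    rw [Finset.mem_image]
    refine ⟨b.toAdd, ?_, rfl⟩
    rw [wts, Finset.mem_image]
    exact ⟨b, Finset.mem_biUnion.2 ⟨(i, j), Finset.mem_univ _, hb⟩, rfl⟩

end Wt

end K187.TorWt
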