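import Groth.Agent.MadRed.K187.ValInf

/-!
# Commuting invertible matrices over `k[X]`: characteristic polynomials with constant coefficients

`exists_countable`: for a group of commuting elements of `GL_n(k[X])` there is a homomorphism to a
countable group on whose kernel the characteristic polynomials have constant coefficients.
-/

set_option autoImplicit false

open Polynomial

namespace K187.ConstPoly

universe u

section Alg

variable {Ω : Type u} [Field Ω] [IsAlgClosed Ω] {n : Type*} [Fintype n] [DecidableEq n]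

/-- an element of a commutative matrix algebra: every eigenvalue is the value of a character -/
theorem exists_algHom (C : Subalgebra Ω (Matrix n n Ω)) (hC : ∀ x ∈ C, ∀ y ∈ C, x * y = y * x)
    (t : C) (lam : Ω) (h : (t : Matrix n n Ω).charpoly.IsRoot lam) :
    ∃ φ : C →ₐ[Ω] Ω, φ t = lam := by
  let _ : CommRing C := { (inferInstance : Ring C) with
    mul_comm := fun x y => Subtype.ext (hC x x.2 y y.2) }
  let _ : Algebra Ω C := C.algebra
  have h1 : ¬ IsUnit (algebraMap Ω C lam - t) := by
    intro hu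
    have h2 := hu.map (C.val : C →ₐ[Ω] Matrix n n Ω)
    rw [Matrix.isUnit_iff_isUnit_det] at h2
    apply h2.ne_zero
    have h3 := Matrix.eval_charpoly (t : Matrix n n Ω) lam
    rw [h.eq_zero] at h3
    rw [h3]
    congr 1
  obtain ⟨m, hm, hmem⟩ := exists_max_ideal_of_mem_nonunits h1
  let _ : Field (C ⧸ m) := Ideal.Quotient.field m
  have hfin : Module.Finite Ω (C ⧸ m) := inferInstance
  have hbij := IsAlgClosed.algebraMap_bijective_of_isIntegral (k := Ω) (K := C ⧸ m)
  let e : Ω ≃ₐ[Ω] (C ⧸ m) := AlgEquiv.ofBijective (Algebra.ofId Ω (C ⧸ m)) hbij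
  refine ⟨e.symm.toAlgHom.comp (Ideal.Quotient.mkₐ Ω m), ?_⟩
  change e.symm (Ideal.Quotient.mk m t) = lam
  rw [AlgEquiv.symm_apply_eq]
  change _ = algebraMap Ω (C ⧸ m) lam
  rw [eq_comm, ← sub_eq_zero]
  change Ideal.Quotient.mk m (algebraMap Ω C lam) - _ = 0
  rw [← map_sub, Ideal.Quotient.eq_zero_iff_mem]
  exact hmem

end Alg

section Main

variable {k : Type u} [Field k] {n : Type} [Fintype n] [DecidableEq n]
variable {G : Type*} [Group G] (ρ : G →* Matrix n n k[X])

theorem exists_countable (hcomm : ∀ g g' : G, ρ g * ρ g' = ρ g' * ρ g) :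
    ∃ (Γ : Type u) (_ : Group Γ) (_ : Countable Γ) (v : G →* Γ),
      ∀ g, v g = 1 → ∀ i, ((ρ g).charpoly.coeff i).natDegree = 0 := by
  obtain ⟨V, hV, hx⟩ := ValInf.exists_valuationSubring k
  have hcount := ValInf.countable_valueGroup V hV hx
  let Ω := ValInf.Om k
  let j : k[X] →+* Ω := algebraMap k[X] Ω
  let σ : G →* Matrix n n Ω :=
    (j.mapMatrix : Matrix n n k[X] →+* Matrix n n Ω).toMonoidHom.comp ρ
  let B : Subalgebra Ω (Matrix n n Ω) := Algebra.adjoin Ω (Set.range σ)
  have hσ : ∀ g, σ g ∈ B := fun g => Algebra.subset_adjoin ⟨g, rfl⟩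
  have hB : ∀ x ∈ B, ∀ y ∈ B, x * y = y * x := by
    have h0 : ∀ a ∈ Set.range σ, ∀ b ∈ Set.range σ, a * b = b * a := by
      rintro _ ⟨g, rfl⟩ _ ⟨g', rfl⟩
      change j.mapMatrix (ρ g) * j.mapMatrix (ρ g') = j.mapMatrix (ρ g') * j.mapMatrix (ρ g)
      rw [← map_mul, hcomm, map_mul]
    intro x hx y hy
    have h1 := (Algebra.isMulCommutative_adjoin Ω h0).is_comm.comm ⟨x, hx⟩ ⟨y, hy⟩
    exact congrArg Subtype.val h1
  let τ : G →* B := { toFun := fun g => ⟨σ g, hσ g⟩, map_one' := Subtype.ext (map_one σ),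
                      map_mul' := fun g g' => Subtype.ext (map_mul σ g g') }
  let H := B →ₐ[Ω] Ω
  have : Fintype H := minpoly.AlgHom.fintype Ω B Ω
  let v : G →* (H → (V.ValueGroup)ˣ) := MonoidHom.pi fun φ : H =>
    (Units.map ((V.valuation.toMonoidWithZeroHom : Ω →* V.ValueGroup).comp (φ : B →* Ω))).comp
      τ.toHomUnits
  have hv : ∀ (g : G) (φ : H), (v g φ : V.ValueGroup) = V.valuation (φ (τ g)) := fun g φ => rfl
  refine ⟨H → (V.ValueGroup)ˣ, inferInstance, ?_, v, ?_⟩
  · have : Countable (V.ValueGroup)ˣ := Function.Injective.countable Units.val_injective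
    infer_instance
  · intro g hg i
    have h1 : ∀ lam ∈ (σ g).charpoly.roots, lam ∈ V := by
      intro lam hl
      obtain ⟨φ, hφ⟩ := exists_algHom B hB (τ g) lam (Polynomial.isRoot_of_mem_roots hl)
      rw [← ValuationSubring.valuation_le_one_iff, ← hφ, ← hv, hg]
      exact le_rfl
    have h2 : (σ g).charpoly ∈ Polynomial.lifts V.subtype := by
      have h4 := (IsAlgClosed.splits (σ g).charpoly).eq_prod_roots_of_monic
        (Matrix.charpoly_monic _)
      refine h4 ▸ Subsemiring.multiset_prod_mem _ _ ?_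
      intro p hp
      rw [Multiset.mem_map] at hp
      obtain ⟨lam, hl, rfl⟩ := hp
      rw [sub_eq_add_neg, ← Polynomial.C_neg]
      exact add_mem (Polynomial.X_mem_lifts _) (Polynomial.C'_mem_lifts ⟨-⟨lam, h1 lam hl⟩, rfl⟩)
    apply ValInf.natDegree_eq_zero_of_mem V hV hx
    rw [Polynomial.lifts_iff_coeff_lifts] at h2
    obtain ⟨y, hy⟩ := h2 i
    have h3 : j ((ρ g).charpoly.coeff i) = (σ g).charpoly.coeff i := by
      change _ = (j.mapMatrix (ρ g)).charpoly.coeff i
      rw [RingHom.mapMatrix_apply, Matrix.charpoly_map, coeff_map]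
    rw [h3, ← hy]
    exact y.2

end Main

end K187.ConstPoly
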