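import Groth.Agent.MadRed.K187.RedData
import Groth.Prelude.Def_W4c3madredgrpAct

/-!
# Points of `G ≅ Spec A` and points of the Hopf algebra `A`
-/

set_option autoImplicit false

universe u

open CategoryTheory MonoidalCategory CartesianMonoidalCategory MonObj GrpObj AlgebraicGeometry Limits
open scoped TensorProduct Polynomial
open WithConv
open Groth.Agent.Books.DynBasic (mapPt mapPt_apply mapPt_injective)
open Groth.Agent.Books.AffBridge Groth.Agent.Sga3B.DSPts
open Groth.Agent.Sga3B.AffPts Groth.Agent.Sga3B.DSAff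
open Groth.Agent.Sga3B.RootOrb

namespace K187.Dict

section Pt

variable {k : Type u} [CommRing k] {G : Over (Spec (CommRingCat.of k))} [GrpObj G]
variable {A : Type u} [CommRing A] [HopfAlgebra k A] (e : G ≅ SpecOver k A) [IsMonHom e.hom]
variable {C : Type u} [CommRing C] [Algebra k C] {D : Type u} [CommRing D] [Algebra k D]

/-- the point of the Hopf algebra attached to a point of the group -/
noncomputable def Φ (t : SpecOver k C ⟶ G) : WithConv (A →ₐ[k] C) :=
  toConv (specPreimage k (t ≫ e.hom))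

omit [GrpObj G] [IsMonHom e.hom] in
theorem specMap_Φ (t : SpecOver k C ⟶ G) : specMap k (Φ e t).ofConv = t ≫ e.hom :=
  specMap_specPreimage k _

omit [GrpObj G] [IsMonHom e.hom] in
theorem Φ_eq_iff (t : SpecOver k C ⟶ G) (g : WithConv (A →ₐ[k] C)) :
    Φ e t = g ↔ t ≫ e.hom = specMap k g.ofConv := by
  constructor
  · rintro rfl
    exact (specMap_Φ e t).symm
  · intro h
    apply WithConv.ofConv_injective
    apply specMap_injective k
    rw [specMap_Φ, h]

omit [GrpObj G] [IsMonHom e.hom] in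
theorem Φ_injective : Function.Injective (Φ e : (SpecOver k C ⟶ G) → WithConv (A →ₐ[k] C)) := by
  intro t t' h
  rw [Φ_eq_iff, specMap_Φ] at h
  exact (cancel_mono e.hom).1 h

omit [GrpObj G] [IsMonHom e.hom] in
theorem Φ_surjective : Function.Surjective (Φ e : (SpecOver k C ⟶ G) → WithConv (A →ₐ[k] C)) := by
  intro g
  refine ⟨specMap k g.ofConv ≫ e.inv, ?_⟩
  rw [Φ_eq_iff, Category.assoc, e.inv_hom_id, Category.comp_id]

theorem Φ_mul (t t' : SpecOver k C ⟶ G) : Φ e (t * t') = Φ e t * Φ e t' := by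
  rw [Φ_eq_iff, specMap_mul, specMap_Φ, specMap_Φ, MonObj.mul_comp]

/-- the bijection on points as a group isomorphism -/
noncomputable def ΦEquiv (C : Type u) [CommRing C] [Algebra k C] :
    (SpecOver k C ⟶ G) ≃* WithConv (A →ₐ[k] C) where
  toEquiv := Equiv.ofBijective (Φ e) ⟨Φ_injective e, Φ_surjective e⟩
  map_mul' := Φ_mul e

theorem Φ_inv (t : SpecOver k C ⟶ G) : Φ e t⁻¹ = (Φ e t)⁻¹ := map_inv (ΦEquiv e C) t

omit [GrpObj G] [IsMonHom e.hom] in
theorem Φ_comp (φ : C →ₐ[k] D) (t : SpecOver k C ⟶ G) :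
    Φ e (specMap k φ ≫ t) = mapPt φ (Φ e t) := by
  rw [Φ_eq_iff, Category.assoc, ← specMap_Φ, ← specMap_comp]
  rfl

end Pt

section Tor

variable {k : Type u} [CommRing k] {G T : Over (Spec (CommRingCat.of k))} [GrpObj G] [GrpObj T]
variable {A : Type u} [CommRing A] [HopfAlgebra k A] (e : G ≅ SpecOver k A) [IsMonHom e.hom]
variable {M : Type} [AddCommGroup M] {p : A →ₐc[k] MonoidAlgebra k (Multiplicative M)}
variable {i : T ⟶ G} {sp : Grp.mk T ≅ Grp.mk (Red.DS (Spec (CommRingCat.of k)) M)}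
variable (hp : ∀ (X : Over (Spec (CommRingCat.of k))) (t : X ⟶ T),
  t ≫ i ≫ e.hom = affPt X ((chAlg (fnChar (t ≫ sp.hom.hom.hom))).comp (p : A →ₐ[k] _)))
variable {C : Type u} [CommRing C] [Algebra k C]

include hp

omit [GrpObj G] [IsMonHom e.hom] in
theorem Φ_tor (t : SpecOver k C ⟶ T) : Φ e (t ≫ i) = torPt p (MonoidHom.toHomUnits
    (((fnSpec (R := k) C).toAlgHom : Fn (SpecOver k C) →* C).comp
      (fnChar (t ≫ sp.hom.hom.hom)))) := by
  rw [Φ_eq_iff, Category.assoc, hp, affPt_spec]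
  congr 1
  rw [← AlgHom.comp_assoc, comp_chAlg]
  rfl

omit [GrpObj G] [IsMonHom e.hom] in
theorem exists_torPt (t : SpecOver k C ⟶ T) : ∃ d : Multiplicative M →* Cˣ,
    Φ e (t ≫ i) = torPt p d := ⟨_, Φ_tor e hp t⟩

omit [GrpObj G] [IsMonHom e.hom] in
theorem exists_Φ_tor (d : Multiplicative M →* Cˣ) : ∃ t : SpecOver k C ⟶ T,
    Φ e (t ≫ i) = torPt p d := by
  let χ : Multiplicative M →* Fn (SpecOver k C) :=
    ((fnSpec (R := k) C).symm.toAlgHom : C →* Fn (SpecOver k C)).comp ((Units.coeHom C).comp d)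
  let x : SpecOver k C ⟶ Red.DS (Spec (CommRingCat.of k)) M := dsEquiv (SpecOver k C) M χ
  have hx : fnChar x = χ := dsChar_dsEquiv _
  refine ⟨x ≫ sp.inv.hom.hom, ?_⟩
  rw [Φ_tor e hp]
  congr 1
  have h1 : sp.inv.hom.hom ≫ sp.hom.hom.hom = 𝟙 _ := congrArg (fun f => f.hom.hom) sp.inv_hom_id
  refine MonoidHom.ext fun m => Units.ext ?_
  change (fnSpec (R := k) C) (fnChar ((x ≫ sp.inv.hom.hom) ≫ sp.hom.hom.hom) m) = _
  rw [Category.assoc, h1, Category.comp_id, hx]
  exact (fnSpec (R := k) C).apply_symm_apply _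

end Tor

end K187.Dict
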