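import Groth.Agent.MadRed.K187.TorConj

/-!
# Families of maximal tori over the affine line: the algebraic form
-/

set_option autoImplicit false

open TensorProduct WithConv Polynomial
open Groth.Agent.Books.DynBasic (mapPt mapPt_apply mapPt_injective)
open Groth.Agent.Sga3B.RootOrb Groth.Agent.Sga3B.RootGr
open Groth.Agent.Sga3B.RootBC136
open K187.TorFam

universe u

namespace K187.TorMain

variable {k : Type u} [Field k] {A : Type u} [CommRing A] [HopfAlgebra k A]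
variable {M : Type} [AddCommGroup M]
variable {p : A →ₐc[k] MonoidAlgebra k (Multiplicative M)}

theorem closure_fibre (T : Set (WithConv (A →ₐ[k] k[X]))) (s : k) (h : WithConv (A →ₐ[k] k))
    (hT : ∀ t ∈ T, ∃ d : Multiplicative M →* kˣ, evPt s t = h * torPt p d * h⁻¹)
    {g : WithConv (A →ₐ[k] k[X])} (hg : g ∈ Subgroup.closure T) :
    ∃ d : Multiplicative M →* kˣ, evPt s g = h * torPt p d * h⁻¹ := by
  induction hg using Subgroup.closure_induction with
  | mem x hx => exact hT x hx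
  | one => exact ⟨1, by rw [map_one, map_one, mul_one, mul_inv_cancel]⟩
  | mul x y _ _ hx hy =>
    obtain ⟨d, hd⟩ := hx
    obtain ⟨d', hd'⟩ := hy
    refine ⟨d * d', ?_⟩
    rw [map_mul, map_mul, hd, hd']
    group
  | inv x _ hx =>
    obtain ⟨d, hd⟩ := hx
    refine ⟨d⁻¹, ?_⟩
    have h0 : d⁻¹ * d = 1 := inv_mul_cancel d
    have h1 : torPt p d⁻¹ = (torPt p d)⁻¹ := eq_inv_of_mul_eq_one_left (by
      rw [← map_mul]
      exact (congrArg (torPt p) h0).trans (map_one _))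
    rw [map_inv, hd, h1]
    group

/-- **Families of maximal tori over the affine line are conjugate to a constant one.** -/
theorem main [IsAlgClosed k] [CharZero k] [Uncountable k] [Algebra.Smooth k A]
    [Module.Free ℤ M] [Module.Finite ℤ M] (hp : Function.Surjective p)
    (hc : ∀ y, p y = 0 → y ∈ JP p (⊥ : AddSubmonoid M))
    (T : Set (WithConv (A →ₐ[k] k[X])))
    (hT : ∀ s : k, ∃ h : WithConv (A →ₐ[k] k), (fun t => evPt s t) '' T =
      Set.range (fun d : Multiplicative M →* kˣ => h * torPt p d * h⁻¹)) :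
    ∃ ρ : WithConv (A →ₐ[k] k[X]),
      T = Set.range (fun d : Multiplicative M →* kˣ => ρ⁻¹ * cPt (torPt p d) * ρ) := by
  have : Algebra.FinitePresentation k A := Algebra.Smooth.finitePresentation
  obtain ⟨h₀, hh₀⟩ := hT 0
  let c := cPt h₀
  have hc' : ∀ s, evPt s c = h₀ := fun s => evPt_cPt s h₀
  let T1 : Set (WithConv (A →ₐ[k] k[X])) := (fun t => c⁻¹ * t * c) '' T
  have hval : ∀ (s : k) (h : WithConv (A →ₐ[k] k)), (fun t => evPt s t) '' T =
      Set.range (fun d : Multiplicative M →* kˣ => h * torPt p d * h⁻¹) →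
      ∀ t ∈ T1, ∃ d : Multiplicative M →* kˣ,
        evPt s t = (h₀⁻¹ * h) * torPt p d * (h₀⁻¹ * h)⁻¹ := by
    rintro s h hh _ ⟨t, ht, rfl⟩
    have h1 : evPt s t ∈ (fun t => evPt s t) '' T := ⟨t, ht, rfl⟩
    rw [hh] at h1
    obtain ⟨d, hd⟩ := h1
    refine ⟨d, ?_⟩
    change evPt s (c⁻¹ * t * c) = _
    rw [map_mul, map_mul, map_inv, hc', ← hd]
    group
  have hfam : IsFam p (Subgroup.closure T1) := by
    refine ⟨?_, ?_, ?_⟩
    · intro s
      obtain ⟨h, hh⟩ := hT s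
      exact ⟨h₀⁻¹ * h, fun g hg => closure_fibre T1 s _ (hval s h hh) hg⟩
    · intro g hg
      obtain ⟨d, hd⟩ := closure_fibre T1 0 _ (hval 0 h₀ hh₀) hg
      refine ⟨d, ?_⟩
      rw [hd]
      group
    · intro d
      have h1 : h₀ * torPt p d * h₀⁻¹ ∈ (fun t => evPt 0 t) '' T := by
        rw [hh₀]
        exact ⟨d, rfl⟩
      obtain ⟨t, ht, htd⟩ := h1
      refine ⟨c⁻¹ * t * c, Subgroup.subset_closure ⟨t, ht, rfl⟩, ?_⟩
      change evPt 0 t = _ at htd
      rw [map_mul, map_mul, map_inv, hc', htd]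
      group
  obtain ⟨q, hq⟩ := TorHom.exists_q hfam
  obtain ⟨γ, hγ⟩ := TorConj.exists_conj_q (q := q) hp hc (by
    intro s
    obtain ⟨h, hh⟩ := hfam.fib s
    refine ⟨h, fun d => ?_⟩
    obtain ⟨g, hg, hgd⟩ := hfam.zero d
    rw [← hq g hg d hgd]
    exact hh g hg) (by
    intro d
    obtain ⟨g, hg, hgd⟩ := hfam.zero d
    rw [← hq g hg d hgd]
    exact hgd)
  refine ⟨γ * c⁻¹, ?_⟩
  ext t
  constructor
  · intro ht
    have hg : c⁻¹ * t * c ∈ Subgroup.closure T1 := Subgroup.subset_closure ⟨t, ht, rfl⟩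
    obtain ⟨d, hd⟩ := hfam.zero_mem _ hg
    have h1 := hq _ hg d hd
    rw [hγ] at h1
    refine ⟨d, ?_⟩
    change (γ * c⁻¹)⁻¹ * cPt (torPt p d) * (γ * c⁻¹) = t
    have h2 : (γ * c⁻¹)⁻¹ * cPt (torPt p d) * (γ * c⁻¹) =
        c * (γ⁻¹ * cPt (torPt p d) * γ) * c⁻¹ := by group
    rw [h2, ← h1]
    group
  · rintro ⟨d, rfl⟩
    have h1 : h₀ * torPt p d * h₀⁻¹ ∈ (fun t => evPt 0 t) '' T := by
      rw [hh₀]
      exact ⟨d, rfl⟩
    obtain ⟨t, ht, htd⟩ := h1
    change evPt 0 t = _ at htd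
    have hg : c⁻¹ * t * c ∈ Subgroup.closure T1 := Subgroup.subset_closure ⟨t, ht, rfl⟩
    have hgd : evPt 0 (c⁻¹ * t * c) = torPt p d := by
      rw [map_mul, map_mul, map_inv, hc', htd]
      group
    have h1 := hq _ hg d hgd
    rw [hγ] at h1
    have h2 : (γ * c⁻¹)⁻¹ * cPt (torPt p d) * (γ * c⁻¹) = t := by
      have h3 : (γ * c⁻¹)⁻¹ * cPt (torPt p d) * (γ * c⁻¹) =
          c * (γ⁻¹ * cPt (torPt p d) * γ) * c⁻¹ := by group
      rw [h3, ← h1]
      group
    change (γ * c⁻¹)⁻¹ * cPt (torPt p d) * (γ * c⁻¹) ∈ T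
    rw [h2]
    exact ht

end K187.TorMain
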