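import Groth.Agent.Sga3B.RootFinal136
import Groth.Agent.Sga3B.TorusAlgClosed
import Groth.Agent.Sga3B.AlgBc2
import Groth.Agent.MadRed.K187.TorMain

/-!
# Hopf algebra data of a reductive group with a split maximal torus
-/

set_option autoImplicit false

universe u

open CategoryTheory MonoidalCategory CartesianMonoidalCategory MonObj GrpObj AlgebraicGeometry Limits
open scoped TensorProduct Polynomial
open WithConv
open Groth.Agent.Books.DynBasic (mapPt mapPt_apply mapPt_injective)
open Groth.Agent.Books.AffBridge Groth.Agent.Sga3B.DSPts Groth.Agent.Sga3B.GaPts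
open Groth.Agent.Sga3B.AffPts Groth.Agent.Sga3B.DSAff
open Groth.Agent.Sga3B.RootCoact Groth.Agent.Sga3B.RootOrb Groth.Agent.Sga3B.RootGr
open Groth.Agent.Sga3B.RootGa Groth.Agent.Sga3B.RootCert Groth.Agent.Sga3B.RootDens136
open Groth.Agent.Sga3B.RootRefl136 Groth.Agent.Sga3B.RootBC136 Groth.Agent.Sga3B.RootWt136
open Groth.Agent.Sga3B.RootExt136 Groth.Agent.Sga3B.RootFinal136
open Groth.Agent.Sga3B

namespace K187.RedData

section Data

variable {R : Type u} [CommRing R] {M : Type} [AddCommGroup M] [Module.Finite ℤ M] [Module.Free ℤ M]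
variable {G T : Over (Spec (CommRingCat.of R))} [GrpObj G] [GrpObj T]

/-- The Hopf algebra of a reductive group with the homomorphism of a split maximal torus. -/
theorem exists_data (hG : Red.IsReductive G) (i : T ⟶ G)
    (hT : Red.IsMaximalTorus i)
    (sp : Grp.mk T ≅ Grp.mk (Red.DS (Spec (CommRingCat.of R)) M)) :
    ∃ (A : Type u) (_ : CommRing A) (_ : HopfAlgebra R A) (e : G ≅ SpecOver R A)
      (p : A →ₐc[R] MonoidAlgebra R (Multiplicative M)), IsMonHom e.hom ∧ Algebra.Smooth R A ∧
      Function.Surjective p ∧ (∀ y, p y = 0 → y ∈ JP p (⊥ : AddSubmonoid M)) ∧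
      ∀ (X : Over (Spec (CommRingCat.of R))) (t : X ⟶ T),
        t ≫ i ≫ e.hom =
          affPt X ((chAlg (fnChar (t ≫ sp.hom.hom.hom))).comp (p : A →ₐ[R] _)) := by
  have hi : IsMonHom i := hT.1
  have : IsAffineHom G.hom := hG.1
  have haff : IsAffine G.left := isAffine_of_isAffineHom G.hom
  obtain ⟨A, _, _, e, he⟩ := exists_hopf R G
  obtain ⟨p, hp⟩ := exists_pi i sp e
  have hsm : Algebra.Smooth R A := by
    have h1 : Smooth G.hom := hG.2.1
    have h2 : Smooth (SpecOver R A).hom := by
      have h3 : (SpecOver R A).hom = e.inv.left ≫ G.hom := (Over.w e.inv).symm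
      rw [h3]
      have h4 : IsIso e.inv.left := inferInstance
      have h5 : Smooth e.inv.left := inferInstance
      exact inferInstanceAs (Smooth (e.inv.left ≫ G.hom))
    have h : RingHom.Smooth (algebraMap R A) := (HasRingHomProperty.Spec_iff (P := @Smooth)).1 h2
    rwa [RingHom.smooth_algebraMap] at h
  have hfp : Algebra.FinitePresentation R A := Algebra.Smooth.finitePresentation
  have hs := fun s : Spec (CommRingCat.of R) =>
    letI := RootBridge989.geomAlg s
    RootBridge989.main hG i hT e sp p hp s (RootBridge989.geomPt_eq s)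
  have hcs : ∀ s : Spec (CommRingCat.of R), letI := RootBridge989.geomAlg s
      Cert (bcP (AlgebraicClosure ((Spec (CommRingCat.of R)).residueField s)) p) := by
    intro s
    let _ := RootBridge989.geomAlg s
    obtain ⟨h1, h2, h3, h4, h5⟩ := hs s
    exact RG.CertRed.cert h3 _ h4 h5
  have hps : Function.Surjective p := by
    apply RootSurj878.surjective_of_fibres
    intro 𝔪 h𝔪
    let s : Spec (CommRingCat.of R) := (⟨𝔪, h𝔪.isPrime⟩ : PrimeSpectrum R)
    let alg := RootBridge989.geomAlg s
    refine ⟨_, inferInstance, alg, ?_, (hs s).2.2.2.1⟩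
    intro r hr
    have h1 := ker_geomAlg (R := R) s
    change r ∈ RingHom.ker _
    rw [h1]
    exact hr
  have hfgM : AddGroup.FG M := Module.Finite.iff_addGroup_fg.1 inferInstance
  have hpc : ∀ y, p y = 0 → y ∈ JP p (⊥ : AddSubmonoid M) := by
    apply RootSurj878.cent_of_fibres' p hps
    intro s
    let alg := RootBridge989.geomAlg (R := R) s
    exact ⟨_, inferInstance, alg, ker_geomAlg s, (hcs s).cent⟩
  exact ⟨A, inferInstance, inferInstance, e, p, he, hsm, hps, hpc, hp⟩

end Data

end K187.RedData
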