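import Groth.Agent.MadRed.K187.TorHom
import Groth.Agent.Sga3B.RootCor585
import Groth.Agent.Sga3A.UliftZ

/-!
# Families of maximal tori over the affine line are conjugate to a constant one
-/

set_option autoImplicit false

open TensorProduct WithConv Polynomial
open Groth.Agent.Books.DynBasic (mapPt mapPt_apply mapPt_injective)
open Groth.Agent.Sga3B.RootOrb Groth.Agent.Sga3B.RootGr
open Groth.Agent.Sga3B.RootTors878b Groth.Agent.Sga3B.RootBC136
open Groth.Agent.Sga3B.RootCor585 (tw torPt_tw exists_common)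
open Groth.Agent.Sga3B.RootDens136 (ext_evT evChar evChar_injective)
open K187.TorFam

universe u

namespace K187.TorConj

section Trans

variable {R : Type u} [CommRing R] {A : Type u} [CommRing A] [HopfAlgebra R A]
variable {M : Type} [AddCommGroup M]
variable {p p' q : A →ₐc[R] MonoidAlgebra R (Multiplicative M)}
variable {C : Type u} [CommRing C] [Algebra R C]

theorem fix_mul_iff {g : WithConv (A →ₐ[R] C)} : Fix p q g ↔
    torPt p (tau M C) * mapPt (cst R M C) g = mapPt (cst R M C) g * torPt q (tau M C) := by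
  rw [Groth.Agent.Sga3B.RootTors878b.Fix, orbU, orb, mul_inv_eq_iff_eq_mul]

theorem fix_trans {g g' : WithConv (A →ₐ[R] C)} (h : Fix p p' g) (h' : Fix p' q g') :
    Fix p q (g * g') := by
  rw [fix_mul_iff] at h h' ⊢
  rw [map_mul, ← mul_assoc, h, mul_assoc, h', mul_assoc]

theorem fix_symm {g : WithConv (A →ₐ[R] C)} (h : Fix p q g) : Fix q p g⁻¹ := by
  rw [fix_mul_iff] at h ⊢
  rw [map_inv, eq_inv_mul_iff_mul_eq, ← mul_assoc, ← h, mul_inv_cancel_right]

theorem fix_of_forall [Module.Free ℤ M] {K : Type u} [Field K] [Infinite K] [Algebra R K]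
    {g : WithConv (A →ₐ[R] K)}
    (h : ∀ d : Multiplicative M →* Kˣ, torPt p d * g = g * torPt q d) : Fix p q g := by
  rw [fix_mul_iff]
  apply WithConv.ofConv_injective
  apply AlgHom.ext
  intro a
  apply ext_evT
  intro d
  have h1 : mapPt ((evT K d).restrictScalars R)
      (torPt p (tau M K) * mapPt (cst R M K) g) = mapPt ((evT K d).restrictScalars R)
      (mapPt (cst R M K) g * torPt q (tau M K)) := by
    rw [map_mul, map_mul, mapPt_torPt, mapPt_torPt]
    have h2 : mapPt ((evT K d).restrictScalars R) (mapPt (cst R M K) g) = g := by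
      apply WithConv.ofConv_injective
      apply AlgHom.ext
      intro a
      rw [mapPt_apply, mapPt_apply]
      exact (evT K d).commutes _
    have h3 : (Units.map (((evT K d).restrictScalars R : _ →ₐ[R] K) :
        MonoidAlgebra K (Multiplicative M) →* K)).comp (tau M K) = d := by
      refine MonoidHom.ext fun m => Units.ext ?_
      change evT K d (MonoidAlgebra.single m 1) = _
      rw [evT_single, one_smul]
    rw [h2, h3]
    exact h d
  exact DFunLike.congr_fun (congrArg WithConv.ofConv h1) a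

end Trans

section BC

variable {R : Type u} [CommRing R] {S : Type u} [CommRing S] [Algebra R S]
variable {A : Type u} [CommRing A] [HopfAlgebra R A]
variable {M : Type} [AddCommGroup M]
variable (p q : A →ₐc[R] MonoidAlgebra R (Multiplicative M))
variable {C : Type u} [CommRing C] [Algebra R C] [Algebra S C] [IsScalarTower R S C]

theorem resPt_orbU (g : WithConv (S ⊗[R] A →ₐ[S] C)) :
    resPt R S (MonoidAlgebra C (Multiplicative M)) (orbU (bcP S p) (bcP S q) g) =
      orbU p q (resPt R S C g) := by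
  rw [orbU, orbU, resPt_orb, resPt_mapPt]
  rfl

theorem fix_bcP_iff (g : WithConv (S ⊗[R] A →ₐ[S] C)) :
    Fix (bcP S p) (bcP S q) g ↔ Fix p q (resPt R S C g) := by
  rw [Groth.Agent.Sga3B.RootTors878b.Fix, Groth.Agent.Sga3B.RootTors878b.Fix, ← resPt_orbU, ← (resPt_injective (R := R) (S := S)).eq_iff, resPt_mapPt]
  rfl

end BC

section Open

variable {R : Type u} [CommRing R] {B : Type u} [CommRing B] [HopfAlgebra R B]
variable {M : Type} [AddCommGroup M]
variable (p q : B →ₐc[R] MonoidAlgebra R (Multiplicative M))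

/-- the image of the transporter in the base -/
def U : Set (PrimeSpectrum R) := Set.range (PrimeSpectrum.comap (algebraMap R (B ⧸ JT p q)))

theorem isOpen_U [Algebra.Smooth R B] : IsOpen (U p q) := by
  have : Module.Flat R (B ⧸ JT p q) := inferInstance
  exact PrimeSpectrum.isOpenMap_comap_of_hasGoingDown_of_finitePresentation.isOpen_range

variable {p q}

theorem mem_U_of_fix {K : Type u} [Field K] [Algebra R K] {g : WithConv (B →ₐ[R] K)}
    (hg : Groth.Agent.Sga3B.RootTors878b.Fix p q g) {x : PrimeSpectrum R}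
    (hx : x.asIdeal = RingHom.ker (algebraMap R K)) :
    x ∈ U p q := by
  let G : B ⧸ JT p q →ₐ[R] K := Ideal.Quotient.liftₐ _ g.ofConv ((fix_iff g).1 hg)
  refine ⟨⟨RingHom.ker G, RingHom.ker_isPrime _⟩, ?_⟩
  apply PrimeSpectrum.ext
  rw [hx]
  ext r
  change G (algebraMap R _ r) = 0 ↔ _
  rw [G.commutes, RingHom.mem_ker]

/-- two transporters over an irreducible base with nonempty images have a common geometric point -/
theorem exists_common_fix [IsDomain R] [Algebra.Smooth R B]
    {p' : B →ₐc[R] MonoidAlgebra R (Multiplicative M)}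
    (h : (U p q).Nonempty) (h' : (U p' q).Nonempty) :
    ∃ (L : Type u) (_ : Field L) (_ : IsAlgClosed L) (_ : Algebra R L)
      (g : WithConv (B →ₐ[R] L)), Groth.Agent.Sga3B.RootTors878b.Fix p p' g := by
  have : IrreducibleSpace (PrimeSpectrum R) := inferInstance
  obtain ⟨x, hx, hx'⟩ := nonempty_preirreducible_inter (isOpen_U p q) (isOpen_U p' q) h h'
  obtain ⟨y, hy⟩ := hx
  obtain ⟨y', hy'⟩ := hx'
  obtain ⟨L, _, _, _, ⟨g⟩, ⟨g'⟩⟩ := exists_common y y' (hy.trans hy'.symm)
  exact ⟨L, inferInstance, inferInstance, inferInstance, _,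
    fix_trans ((fix_xU p q).map g) (fix_symm ((fix_xU p' q).map g'))⟩

end Open

section Desc

variable {k : Type u} [Field k] [IsAlgClosed k] {A : Type u} [CommRing A] [HopfAlgebra k A]
variable {M : Type} [AddCommGroup M] [Algebra.FiniteType k A]
variable {p p' : A →ₐc[k] MonoidAlgebra k (Multiplicative M)}

theorem exists_pt (B : Type u) [CommRing B] [Algebra k B] [Algebra.FiniteType k B] [Nontrivial B] :
    Nonempty (B →ₐ[k] k) := by
  obtain ⟨m, hm⟩ := Ideal.exists_maximal B
  let _ : Field (B ⧸ m) := Ideal.Quotient.field m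
  have hfin : Module.Finite k (B ⧸ m) := finite_of_finite_type_of_isJacobsonRing k (B ⧸ m)
  have hbij := IsAlgClosed.algebraMap_bijective_of_isIntegral (k := k) (K := B ⧸ m)
  let e : k ≃ₐ[k] (B ⧸ m) := AlgEquiv.ofBijective (Algebra.ofId k (B ⧸ m)) hbij
  exact ⟨e.symm.toAlgHom.comp (Ideal.Quotient.mkₐ k m)⟩

/-- descent of points of the transporter to an algebraically closed field -/
theorem exists_fix {L : Type u} [Field L] [Algebra k L] {g : WithConv (A →ₐ[k] L)}
    (hg : Groth.Agent.Sga3B.RootTors878b.Fix p p' g) :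
    ∃ n : WithConv (A →ₐ[k] k), Groth.Agent.Sga3B.RootTors878b.Fix p p' n := by
  let G : A ⧸ JT p p' →ₐ[k] L := Ideal.Quotient.liftₐ _ g.ofConv ((fix_iff g).1 hg)
  have : Nontrivial (A ⧸ JT p p') := G.toRingHom.domain_nontrivial
  obtain ⟨φ⟩ := exists_pt (k := k) (A ⧸ JT p p')
  exact ⟨_, (fix_xU p p').map φ⟩

end Desc

section Twist

variable {k : Type u} [Field k] {A : Type u} [CommRing A] [HopfAlgebra k A]
variable {M : Type} [AddCommGroup M] [Module.Free ℤ M]
variable {p : A →ₐc[k] MonoidAlgebra k (Multiplicative M)}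

omit [Module.Free ℤ M] in
/-- a regular function on `D(M)` which is multiplicative on the points is a character -/
theorem exists_char [Infinite k] (χ : (Multiplicative M →* kˣ) →* k)
    (F : MonoidAlgebra k (Multiplicative M)) (hF : ∀ d, evT k d F = χ d) :
    ∃ b : Multiplicative M, χ = evChar b := by
  by_contra hcon
  push Not at hcon
  have hli := linearIndependent_monoidHom (Multiplicative M →* kˣ) k
  have h1 := hli.notMem_span_image (s := Set.range (evChar (K := k) (M := M))) (x := χ) (by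
    rintro ⟨b, hb⟩
    exact hcon b hb.symm)
  apply h1
  have h2 : (χ : (Multiplicative M →* kˣ) → k) =
      ∑ b ∈ F.coeff.support, F.coeff b • (evChar (K := k) (M := M) b : (Multiplicative M →* kˣ) → k) := by
    ext1 d
    rw [← hF, evT, MonoidAlgebra.lift_apply, Finsupp.sum, Finset.sum_apply]
    rfl
  rw [h2]
  refine Submodule.sum_mem _ fun b _ => Submodule.smul_mem _ _ (Submodule.subset_span ?_)
  exact ⟨_, ⟨b, rfl⟩, rfl⟩

/-- an endomorphism of the group of points of `D(M)` which is given by regular functions -/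
theorem exists_twist [Infinite k] (σ : (Multiplicative M →* kˣ) →* (Multiplicative M →* kˣ))
    (hσ : ∀ b : Multiplicative M, ∃ F : MonoidAlgebra k (Multiplicative M),
      ∀ d, evT k d F = (σ d b : k)) :
    ∃ w : M →+ M, ∀ d, σ d = d.comp (AddMonoidHom.toMultiplicative w) := by
  have h1 : ∀ b : Multiplicative M, ∃ b' : Multiplicative M, ∀ d, σ d b = d b' := by
    intro b
    obtain ⟨F, hF⟩ := hσ b
    obtain ⟨b', hb'⟩ := exists_char ((evChar b).comp σ) F hF
    refine ⟨b', fun d => Units.ext ?_⟩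
    exact DFunLike.congr_fun hb' d
  choose w hw using h1
  have hmul : ∀ a b, w (a * b) = w a * w b := by
    intro a b
    apply evChar_injective (K := k)
    refine MonoidHom.ext fun d => ?_
    change (d (w (a * b)) : k) = (d (w a * w b) : k)
    rw [map_mul, ← hw, ← hw, ← hw, map_mul]
  let W : Multiplicative M →* Multiplicative M := MonoidHom.mk' w hmul
  refine ⟨AddMonoidHom.toMultiplicative.symm W, fun d => ?_⟩
  refine MonoidHom.ext fun b => ?_
  exact hw b d

end Twist

section Fibre

/-- the residue field at a point of the affine line -/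
def Pt {k : Type u} [Field k] (_ : k) : Type u := k

variable {k : Type u} [Field k] (s : k)

noncomputable instance : Field (Pt s) := inferInstanceAs (Field k)

noncomputable instance : Algebra k (Pt s) := inferInstanceAs (Algebra k k)

noncomputable instance : Algebra k[X] (Pt s) := (Polynomial.evalRingHom s : k[X] →+* k).toAlgebra

instance : IsScalarTower k k[X] (Pt s) := IsScalarTower.of_algebraMap_eq fun r => by
  change r = (algebraMap k k[X] r).eval s
  rw [← C_eq_algebraMap, eval_C]

/-- the point of `Spec k[X]` attached to `s` -/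
noncomputable def pt : PrimeSpectrum k[X] := ⟨RingHom.ker (algebraMap k[X] (Pt s)), RingHom.ker_isPrime _⟩

theorem exists_ker_eq [IsAlgClosed k] (m : Ideal k[X]) (hm : m.IsMaximal) :
    ∃ s : k, m = RingHom.ker (algebraMap k[X] (Pt s)) := by
  have hnt : Nontrivial (k[X] ⧸ m) := Ideal.Quotient.nontrivial_iff.2 hm.ne_top
  obtain ⟨φ⟩ := exists_pt (k := k) (k[X] ⧸ m)
  let ψ : k[X] →ₐ[k] k := φ.comp (Ideal.Quotient.mkₐ k m)
  refine ⟨ψ X, hm.eq_of_le (RingHom.ker_ne_top _) ?_⟩
  intro f hf
  have h1 : ψ = Polynomial.aeval (ψ X) := by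
    apply Polynomial.algHom_ext
    rw [aeval_X]
  have h2 : ψ f = 0 := by
    change φ (Ideal.Quotient.mk m f) = 0
    rw [Ideal.Quotient.eq_zero_iff_mem.2 hf, map_zero]
  rw [h1, Polynomial.coe_aeval_eq_eval] at h2
  exact h2

variable {A : Type u} [CommRing A] [HopfAlgebra k A]
variable {M : Type} [AddCommGroup M]

/-- the value of a homomorphism `q` over `k[X]` at `s` -/
noncomputable def fibre (q : k[X] ⊗[k] A →ₐc[k[X]] MonoidAlgebra k[X] (Multiplicative M)) :
    WithConv (A →ₐ[k] MonoidAlgebra k (Multiplicative M)) :=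
  toConv (((MonoidAlgebra.mapAlgHom (Multiplicative M) (Polynomial.aeval s : k[X] →ₐ[k] k)).comp
    ((q : k[X] ⊗[k] A →ₐ[k[X]] _).restrictScalars k)).comp Algebra.TensorProduct.includeRight)

theorem mapPt_fibre (q : k[X] ⊗[k] A →ₐc[k[X]] MonoidAlgebra k[X] (Multiplicative M))
    (d : Multiplicative M →* kˣ) :
    mapPt (evT k d) (fibre s q) = evPt s (resPt k k[X] k[X] (torPt q (cd k d))) := by
  apply WithConv.ofConv_injective
  apply AlgHom.ext
  intro a
  rw [evPt_apply, resPt_apply, torPt_apply, mapPt_apply]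
  change evT k d (MonoidAlgebra.mapAlgHom (Multiplicative M) (Polynomial.aeval s : k[X] →ₐ[k] k)
    (q (1 ⊗ₜ a))) = _
  generalize q (1 ⊗ₜ a) = f
  induction f using MonoidAlgebra.induction_linear with
  | zero => simp
  | add x y hx hy => rw [map_add, map_add, map_add, hx, hy, eval_add]
  | single m b =>
    rw [MonoidAlgebra.mapAlgHom_single, evT_single, evT_single, smul_eq_mul, smul_eq_mul, eval_mul,
      Polynomial.coe_aeval_eq_eval]
    congr 1
    change _ = (algebraMap k k[X] (d m : k)).eval s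
    rw [← C_eq_algebraMap, eval_C]

variable {s} {p : A →ₐc[k] MonoidAlgebra k (Multiplicative M)}
variable {q : k[X] ⊗[k] A →ₐc[k[X]] MonoidAlgebra k[X] (Multiplicative M)}

theorem cd_mul (d d' : Multiplicative M →* kˣ) : cd k (d * d') = cd k d * cd k d' :=
  MonoidHom.ext fun m => map_mul (Units.map (algebraMap k k[X] : k →* k[X])) (d m) (d' m)

theorem evPt_mul (d d' : Multiplicative M →* kˣ) :
    evPt s (resPt k k[X] k[X] (torPt q (cd k (d * d')))) =
      evPt s (resPt k k[X] k[X] (torPt q (cd k d))) *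
      evPt s (resPt k k[X] k[X] (torPt q (cd k d'))) := by
  rw [cd_mul, map_mul (torPt q), map_mul (resPt k k[X] k[X]), map_mul (evPt s)]

/-- `q` is fibrewise conjugate to a twist of `p` -/
theorem exists_twist_fibre [Module.Free ℤ M] [Infinite k] (hp : Function.Surjective p)
    (h : WithConv (A →ₐ[k] k))
    (hq : ∀ d : Multiplicative M →* kˣ, ∃ d' : Multiplicative M →* kˣ,
      evPt s (resPt k k[X] k[X] (torPt q (cd k d))) = h * torPt p d' * h⁻¹) :
    ∃ w : M →+ M, ∀ d : Multiplicative M →* kˣ,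
      evPt s (resPt k k[X] k[X] (torPt q (cd k d))) = h * torPt (tw p w) d * h⁻¹ := by
  choose σ hσ using hq
  have hinj := torPt_injective (C := k) hp
  have hmul : ∀ d d', σ (d * d') = σ d * σ d' := by
    intro d d'
    apply hinj
    have h1 := evPt_mul (s := s) (q := q) d d'
    rw [hσ, hσ, hσ] at h1
    have h2 : h * torPt p (σ d) * h⁻¹ * (h * torPt p (σ d') * h⁻¹) =
        h * (torPt p (σ d) * torPt p (σ d')) * h⁻¹ := by group
    rw [h2] at h1
    rw [map_mul (torPt p)]
    exact mul_left_cancel (mul_right_cancel h1)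
  let τ : (Multiplicative M →* kˣ) →* (Multiplicative M →* kˣ) := MonoidHom.mk' σ hmul
  obtain ⟨w, hw⟩ := exists_twist τ (by
    intro b
    obtain ⟨a, ha⟩ := hp (MonoidAlgebra.single b 1)
    let c := cst k M k
    refine ⟨((mapPt c h)⁻¹ * fibre s q * mapPt c h).ofConv a, fun d => ?_⟩
    have h1 : mapPt (evT k d) ((mapPt c h)⁻¹ * fibre s q * mapPt c h) = torPt p (σ d) := by
      rw [map_mul, map_mul, map_inv, mapPt_fibre, hσ]
      have h2 : mapPt (evT k d) (mapPt c h) = h := by
        apply WithConv.ofConv_injective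
        apply AlgHom.ext
        intro a
        rw [mapPt_apply, mapPt_apply]
        exact (evT k d).commutes _
      rw [h2]
      group
    have h3 := DFunLike.congr_fun (congrArg WithConv.ofConv h1) a
    rw [torPt_apply, ha, evT_single, one_smul] at h3
    exact h3)
  refine ⟨w, fun d => ?_⟩
  rw [hσ, torPt_tw, ← hw]
  rfl

end Fibre

section Main

variable {k : Type u} [Field k] {s : k}
variable {A : Type u} [CommRing A] [HopfAlgebra k A]
variable {M : Type} [AddCommGroup M] [Module.Free ℤ M]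
variable {p : A →ₐc[k] MonoidAlgebra k (Multiplicative M)}
variable {q : k[X] ⊗[k] A →ₐc[k[X]] MonoidAlgebra k[X] (Multiplicative M)}

/-- fibrewise conjugacy in terms of transporters -/
theorem exists_fix_fibre [Infinite k] (P : A →ₐc[k] MonoidAlgebra k (Multiplicative M))
    (h : WithConv (A →ₐ[k] k)) (hP : ∀ d : Multiplicative M →* kˣ,
      evPt s (resPt k k[X] k[X] (torPt q (cd k d))) = h * torPt P d * h⁻¹) :
    ∃ g : WithConv (k[X] ⊗[k] A →ₐ[k[X]] Pt s),
      Groth.Agent.Sga3B.RootTors878b.Fix (bcP k[X] P) q g := by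
  have : Infinite (Pt s) := inferInstanceAs (Infinite k)
  obtain ⟨h', hh'⟩ : ∃ h' : WithConv (A →ₐ[k] k), h' = h⁻¹ := ⟨_, rfl⟩
  obtain ⟨h'', hh''⟩ : ∃ h'' : WithConv (A →ₐ[k] Pt s), h'' = h' := ⟨h', rfl⟩
  obtain ⟨g, hg⟩ := resPt_surjective (R := k) (S := k[X]) (C := Pt s) (A := A) h''
  refine ⟨g, fix_of_forall fun d₁ => ?_⟩
  obtain ⟨d, hd⟩ : ∃ d : Multiplicative M →* kˣ, d = d₁ := ⟨d₁, rfl⟩
  apply resPt_injective (R := k)
  rw [map_mul, map_mul, resPt_torPt, hg, hh'']
  have h1 : resPt k k[X] (Pt s) (torPt q d₁) = evPt s (resPt k k[X] k[X] (torPt q (cd k d))) := by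
    have h2 : torPt q d₁ = mapPt (Algebra.ofId k[X] (Pt s)) (torPt q (cd k d)) := by
      rw [mapPt_torPt]
      congr 1
      refine MonoidHom.ext fun m => Units.ext ?_
      rw [← hd]
      change (d m : k) = (algebraMap k k[X] (d m : k)).eval s
      rw [← C_eq_algebraMap, eval_C]
    rw [h2, resPt_mapPt]
    rfl
  rw [h1, ← hd]
  have h2 := hP d
  change torPt P d * h' = h' * evPt s (resPt k k[X] k[X] (torPt q (cd k d)))
  rw [h2, hh']
  group

/-- **Conjugacy over the affine line.** -/
theorem exists_conj_q [IsAlgClosed k] [Algebra.Smooth k A] (hp : Function.Surjective p)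
    (hc : ∀ y, p y = 0 → y ∈ JP p (⊥ : AddSubmonoid M))
    (hq : ∀ s : k, ∃ h : WithConv (A →ₐ[k] k), ∀ d : Multiplicative M →* kˣ,
      ∃ d' : Multiplicative M →* kˣ,
        evPt s (resPt k k[X] k[X] (torPt q (cd k d))) = h * torPt p d' * h⁻¹)
    (hq0 : ∀ d : Multiplicative M →* kˣ,
      evPt 0 (resPt k k[X] k[X] (torPt q (cd k d))) = torPt p d) :
    ∃ g : WithConv (A →ₐ[k] k[X]), ∀ d : Multiplicative M →* kˣ,
      resPt k k[X] k[X] (torPt q (cd k d)) = g⁻¹ * cPt (torPt p d) * g := by
  have : Infinite k := IsAlgClosed.instInfinite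
  have : Algebra.FinitePresentation k A := Algebra.Smooth.finitePresentation
  have hpic : Subsingleton (CommRing.Pic k[X]) := inferInstance
  -- the point `0`
  obtain ⟨g₀, hg₀⟩ := exists_fix_fibre (s := 0) (q := q) p 1 (by
    intro d
    rw [hq0, one_mul, inv_one, mul_one])
  have hne : (U (bcP k[X] p) q).Nonempty := ⟨pt 0, mem_U_of_fix hg₀ rfl⟩
  have key : ∀ s : k, ∃ g : WithConv (k[X] ⊗[k] A →ₐ[k[X]] Pt s),
      Groth.Agent.Sga3B.RootTors878b.Fix (bcP k[X] p) q g := by
    intro s
    obtain ⟨h, hh⟩ := hq s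
    obtain ⟨w, hw⟩ := exists_twist_fibre hp h hh
    obtain ⟨gs, hgs⟩ := exists_fix_fibre (s := s) (q := q) (tw p w) h hw
    obtain ⟨L, _, _, _, g, hg⟩ := exists_common_fix hne ⟨pt s, mem_U_of_fix hgs rfl⟩
    let _ : Algebra k L := ((algebraMap k[X] L).comp (algebraMap k k[X])).toAlgebra
    have : IsScalarTower k k[X] L := IsScalarTower.of_algebraMap_eq fun _ => rfl
    rw [fix_bcP_iff] at hg
    obtain ⟨n, hn⟩ := exists_fix hg
    obtain ⟨n', hn'⟩ := resPt_surjective (R := k) (S := k[X]) (C := Pt s) (A := A)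
      (mapPt (Algebra.ofId k (Pt s)) n)
    have h3 : Groth.Agent.Sga3B.RootTors878b.Fix (bcP k[X] p) (bcP k[X] (tw p w)) n' := by
      rw [fix_bcP_iff, hn']
      exact hn.map _
    exact ⟨_, fix_trans h3 hgs⟩
  obtain ⟨g, hg⟩ := Groth.Agent.Sga3B.RootFix878.exists_conj (p := bcP k[X] p) (q := q)
    (bcP_surjective k[X] p hp) (Groth.Agent.Sga3B.RootExt136.cent_bc p k[X] hp hc) (by
      intro m hm
      obtain ⟨s, hs⟩ := exists_ker_eq m hm
      obtain ⟨g, hg⟩ := key s
      refine ⟨Pt s, inferInstance, inferInstance, g, hg, ?_⟩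
      intro r hr
      rw [hs] at hr
      exact hr)
  refine ⟨resPt k k[X] k[X] g, fun d => ?_⟩
  have h1 := congrArg (resPt k k[X] k[X]) (hg.mul_eq (cd k d))
  rw [map_mul, map_mul, resPt_torPt] at h1
  have h2 : torPt p (cd k d) = cPt (torPt p d) := by
    rw [mapPt_torPt]
    rfl
  rw [← h2, mul_assoc, h1, inv_mul_cancel_left]

end Main

end K187.TorConj
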