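import Groth.Agent.MadRed.K187.TorWt

/-!
# Families of split tori over the affine line

`IsFam p G1`: `G1` is a group of `k[X]`-points of `G = Spec A` whose value at every `s : k` consists of
elements of a conjugate of the torus `p`, and whose value at `0` is the torus.  Then `G1` is the
group of the values of a homomorphism `q : D(M) → G` over `k[X]` at the `k`-points of `D(M)`.
-/

set_option autoImplicit false

open TensorProduct WithConv Polynomial
open Groth.Agent.Books.DynBasic (mapPt mapPt_apply mapPt_injective)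
open Groth.Agent.Sga3B.RootOrb
open Groth.Agent.Sga3C.MatComod

universe u

namespace K187.TorFam

section Ev

variable {k : Type u} [Field k] {A : Type u} [CommRing A] [HopfAlgebra k A]

/-- evaluation of `k[X]`-points -/
noncomputable abbrev evPt (s : k) : WithConv (A →ₐ[k] k[X]) →* WithConv (A →ₐ[k] k) :=
  mapPt (Polynomial.aeval s)

theorem evPt_apply (s : k) (g : WithConv (A →ₐ[k] k[X])) (a : A) :
    (evPt s g).ofConv a = (g.ofConv a).eval s := by
  rw [mapPt_apply, Polynomial.coe_aeval_eq_eval]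

theorem evPt_ext [Infinite k] {g g' : WithConv (A →ₐ[k] k[X])}
    (h : ∀ s : k, evPt s g = evPt s g') : g = g' := by
  apply WithConv.ofConv_injective
  apply AlgHom.ext
  intro a
  apply Polynomial.funext
  intro s
  change (g.ofConv a).eval s = (g'.ofConv a).eval s
  rw [← evPt_apply, h, evPt_apply]

/-- the constant points -/
noncomputable abbrev cPt : WithConv (A →ₐ[k] k) →* WithConv (A →ₐ[k] k[X]) :=
  mapPt (Algebra.ofId k k[X])

theorem evPt_cPt (s : k) (g : WithConv (A →ₐ[k] k)) : evPt s (cPt g) = g := by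
  apply WithConv.ofConv_injective
  apply AlgHom.ext
  intro a
  change Polynomial.aeval s (algebraMap k k[X] (g.ofConv a)) = g.ofConv a
  rw [AlgHom.commutes]
  rfl

end Ev

section Fam

variable {k : Type u} [Field k] {A : Type u} [CommRing A] [HopfAlgebra k A]
variable {M : Type} [AddCommGroup M]
variable (p : A →ₐc[k] MonoidAlgebra k (Multiplicative M))

/-- a family of tori over the affine line, equal to the torus `p` at `0` -/
structure IsFam (G1 : Subgroup (WithConv (A →ₐ[k] k[X]))) : Prop where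
  fib : ∀ s : k, ∃ h : WithConv (A →ₐ[k] k), ∀ g ∈ G1, ∃ d : Multiplicative M →* kˣ,
    evPt s g = h * torPt p d * h⁻¹
  zero_mem : ∀ g ∈ G1, ∃ d : Multiplicative M →* kˣ, evPt 0 g = torPt p d
  zero : ∀ d : Multiplicative M →* kˣ, ∃ g ∈ G1, evPt 0 g = torPt p d

variable {p} {G1 : Subgroup (WithConv (A →ₐ[k] k[X]))}

theorem IsFam.comm [Infinite k] (h : IsFam p G1) {g g' : WithConv (A →ₐ[k] k[X])} (hg : g ∈ G1)
    (hg' : g' ∈ G1) : g * g' = g' * g := by
  apply evPt_ext
  intro s
  obtain ⟨x, hx⟩ := h.fib s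
  obtain ⟨d, hd⟩ := hx g hg
  obtain ⟨d', hd'⟩ := hx g' hg'
  rw [map_mul, map_mul, hd, hd']
  have h1 : ∀ a b : WithConv (A →ₐ[k] k), x * a * x⁻¹ * (x * b * x⁻¹) = x * (a * b) * x⁻¹ := by
    intro a b
    group
  rw [h1, h1, Groth.Agent.Sga3B.RootTors878b.torPt_comm]

variable [DecidableEq M]
variable {n : Type} [Fintype n] [DecidableEq n] {m : Matrix n n A}

open WeightMat TorWt in
theorem IsFam.toFam [IsAlgClosed k] (h : IsFam p G1) (hm : IsMult k m) :
    Fam (wts m p) (wt m p) ((rep hm k[X]).comp G1.subtype) := by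
  have : Infinite k := IsAlgClosed.instInfinite
  refine ⟨dec_wt hm, ?_, ?_, ?_⟩
  · intro g g'
    change rep hm k[X] g * rep hm k[X] g' = rep hm k[X] g' * rep hm k[X] g
    rw [← map_mul, ← map_mul, h.comm g.2 g'.2]
  · intro s
    obtain ⟨x, hx⟩ := h.fib s
    refine ⟨(rep hm k).toHomUnits x, ?_⟩
    intro g
    obtain ⟨d, hd⟩ := hx g g.2
    refine ⟨fun a => (d (Multiplicative.ofAdd a) : k), ?_⟩
    have h1 := congrArg (rep hm k) hd
    rw [map_mul, map_mul, rep_torPt hm d] at h1
    refine Eq.trans ?_ (h1.trans ?_)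
    · rfl
    · congr 1
  · intro d
    obtain ⟨g, hg, hd⟩ := h.zero d
    exact ⟨⟨g, hg⟩, (congrArg (rep hm k) hd).trans (rep_torPt hm d)⟩

open WeightMat TorWt in
theorem IsFam.exists_idem [IsAlgClosed k] [CharZero k] [Uncountable k] (h : IsFam p G1) (hm : IsMult k m) (f : M →+ ℤ)
    (hf : Set.InjOn f (wts m p)) :
    ∃ E : M → Matrix n n k[X], Dec (wts m p) E ∧ (∀ b ∈ wts m p, ev 0 (E b) = wt m p b) ∧
      ∀ g ∈ G1, ∀ d : Multiplicative M →* kˣ, evPt 0 g = torPt p d →
        rep hm k[X] g = ∑ b ∈ wts m p, (C (d (Multiplicative.ofAdd b) : k) : k[X]) • E b := by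
  obtain ⟨E, h1, h2, h3⟩ := (h.toFam hm).main f hf
  refine ⟨E, h1, h2, ?_⟩
  intro g hg d hd
  exact h3 ⟨g, hg⟩ (fun a => (d (Multiplicative.ofAdd a) : k))
    ((congrArg (rep hm k) hd).trans (rep_torPt hm d))

end Fam

section Sep

variable {k : Type u} [Field k] {M : Type} [AddCommGroup M]

variable (k) in
/-- a `k`-point of `D(M)` as a `k[X]`-point -/
noncomputable abbrev cd (d : Multiplicative M →* kˣ) : Multiplicative M →* k[X]ˣ :=
  (Units.map (algebraMap k k[X] : k →* k[X])).comp d

/-- the characters of the group of points of `D(M)` -/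
noncomputable def chr (b : Multiplicative M) : (Multiplicative M →* kˣ) →* k[X] where
  toFun d := C (d b : k)
  map_one' := by simp
  map_mul' d d' := by simp

theorem exists_ne_of_ne [CharZero k] [Module.Free ℤ M] {b : M} (hb : b ≠ 0) :
    ∃ d : Multiplicative M →* kˣ, d (Multiplicative.ofAdd b) ≠ 1 := by
  let B := Module.Free.chooseBasis ℤ M
  obtain ⟨i, hi⟩ : ∃ i, B.repr b i ≠ 0 := by
    by_contra h
    push Not at h
    apply hb
    apply B.repr.injective
    ext i
    rw [h i, map_zero]
    rfl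
  let f : M →+ ℤ := (B.coord i).toAddMonoidHom
  have h2 : (2 : k) ≠ 0 := two_ne_zero
  refine ⟨(zpowersHom kˣ (Units.mk0 2 h2)).comp (AddMonoidHom.toMultiplicative f), ?_⟩
  change (Units.mk0 (2 : k) h2) ^ (f b) ≠ 1
  intro h
  have h3 : ((2 : k)) ^ (f b) = 1 := by
    have := congrArg Units.val h
    rwa [Units.val_zpow_eq_zpow_val, Units.val_mk0, Units.val_one] at this
  have h4 : ((2 : ℚ)) ^ (f b) = 1 := by
    have h5 : algebraMap ℚ k ((2 : ℚ) ^ (f b)) = algebraMap ℚ k 1 := by
      rw [map_zpow₀, map_ofNat, map_one, h3]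
    exact (algebraMap ℚ k).injective h5
  rw [zpow_eq_one_iff_right₀ (by norm_num) (by norm_num)] at h4
  exact hi h4

theorem chr_injective [CharZero k] [Module.Free ℤ M] :
    Function.Injective (chr : Multiplicative M → (Multiplicative M →* kˣ) →* k[X]) := by
  intro b b' h
  by_contra hne
  have hne' : b.toAdd - b'.toAdd ≠ 0 := by
    rw [sub_ne_zero]
    exact fun h => hne h
  obtain ⟨d, hd⟩ := exists_ne_of_ne (k := k) hne'
  apply hd
  have h1 : C (d b : k) = C (d b' : k) := DFunLike.congr_fun h d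
  have h2 : d b = d b' := Units.ext (C_injective h1)
  rw [ofAdd_sub, ofAdd_toAdd, ofAdd_toAdd, _root_.map_div, h2, div_self']

/-- the `k`-points of `D(M)` separate the elements of `k[X][M]` -/
theorem evT_sep [CharZero k] [Module.Free ℤ M] {f g : MonoidAlgebra k[X] (Multiplicative M)}
    (h : ∀ d : Multiplicative M →* kˣ, evT k[X] (cd k d) f = evT k[X] (cd k d) g) : f = g := by
  classical
  rw [← sub_eq_zero]
  set w := f - g with hw
  have hw0 : ∀ d : Multiplicative M →* kˣ, evT k[X] (cd k d) w = 0 := by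
    intro d
    rw [hw, map_sub, h, sub_self]
  have hli : LinearIndependent k[X] (fun b : Multiplicative M =>
      ((chr b : (Multiplicative M →* kˣ) →* k[X]) : (Multiplicative M →* kˣ) → k[X])) :=
    (linearIndependent_monoidHom (Multiplicative M →* kˣ) k[X]).comp _ chr_injective
  rw [linearIndependent_iff'] at hli
  have h1 : ∑ b ∈ w.coeff.support, w.coeff b •
      ((chr b : (Multiplicative M →* kˣ) →* k[X]) : (Multiplicative M →* kˣ) → k[X]) = 0 := by
    ext1 d
    rw [Finset.sum_apply, Pi.zero_apply, ← hw0 d, evT, MonoidAlgebra.lift_apply, Finsupp.sum]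
    rfl
  apply MonoidAlgebra.coeff_injective
  ext b
  by_cases hb : b ∈ w.coeff.support
  · rw [hli _ _ h1 b hb]
    rfl
  · rw [Finsupp.notMem_support_iff.1 hb]
    rfl

end Sep

end K187.TorFam
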