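import Groth.Agent.MadRed.K187.TorFam
import Groth.Agent.Sga3B.RootExt136
import Groth.Agent.Sga3B.RootFix878
import Groth.Agent.Sga3B.RG.Extremal

/-!
# The homomorphism attached to a family of tori
-/

set_option autoImplicit false

open TensorProduct WithConv Polynomial
open Groth.Agent.Books.DynBasic (mapPt mapPt_apply mapPt_injective)
open Groth.Agent.Sga3B.RootOrb
open Groth.Agent.Sga3C.MatComod

universe u

namespace K187.TorHom

section Lift

variable {k : Type u} [Field k] {A : Type u} [CommRing A] [HopfAlgebra k A]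
variable {n : Type} [Fintype n] [DecidableEq n] {m : Matrix n n A}

omit [Fintype n] [DecidableEq n] in
/-- extending a map from the generators -/
theorem exists_lift (hgen : Algebra.adjoin k (Set.range fun x : n × n => m x.1 x.2) = ⊤)
    {B : Type u} [CommRing B] [Algebra k B] (Q : Matrix n n B)
    {ι : Type*} {C : Type u} [CommRing C] [Algebra k C] (e : ι → B →ₐ[k] C)
    (he : ∀ b : B, (∀ i, e i b = 0) → b = 0)
    (t : ι → A →ₐ[k] C) (ht : ∀ i a b, t i (m a b) = e i (Q a b)) :
    ∃ q : A →ₐ[k] B, (∀ a b, q (m a b) = Q a b) ∧ ∀ i, (e i).comp q = t i := by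
  let φ : MvPolynomial (n × n) k →ₐ[k] A := MvPolynomial.aeval fun x => m x.1 x.2
  let ψ : MvPolynomial (n × n) k →ₐ[k] B := MvPolynomial.aeval fun x => Q x.1 x.2
  have hφ : Function.Surjective φ := by
    rw [← AlgHom.range_eq_top, ← hgen, Algebra.adjoin_range_eq_range_aeval]
  have hker : ∀ P, φ P = 0 → ψ P = 0 := by
    intro P hP
    apply he
    intro i
    have h1 : (e i).comp ψ = (t i).comp φ := by
      apply MvPolynomial.algHom_ext
      intro x
      rw [AlgHom.comp_apply, AlgHom.comp_apply, MvPolynomial.aeval_X, MvPolynomial.aeval_X, ht]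
    have h2 := DFunLike.congr_fun h1 P
    rw [AlgHom.comp_apply, AlgHom.comp_apply, hP, map_zero] at h2
    exact h2
  let q : A →ₐ[k] B := (Ideal.Quotient.liftₐ (RingHom.ker φ) ψ hker).comp
      (Ideal.quotientKerAlgEquivOfSurjective (f := φ) hφ).symm.toAlgHom
  have hq : ∀ P, q (φ P) = ψ P := by
    intro P
    have h1 : (Ideal.quotientKerAlgEquivOfSurjective (f := φ) hφ).symm (φ P) =
        Ideal.Quotient.mk _ P := by
      rw [AlgEquiv.symm_apply_eq]
      rfl
    change (Ideal.Quotient.liftₐ (RingHom.ker φ) ψ hker)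
      ((Ideal.quotientKerAlgEquivOfSurjective (f := φ) hφ).symm (φ P)) = _
    rw [h1]
    rfl
  have hqm : ∀ a b, q (m a b) = Q a b := by
    intro a b
    have h1 := hq (MvPolynomial.X (a, b))
    change q (MvPolynomial.aeval _ _) = MvPolynomial.aeval _ _ at h1
    rwa [MvPolynomial.aeval_X, MvPolynomial.aeval_X] at h1
  refine ⟨q, hqm, fun i => ?_⟩
  apply AlgHom.ext_of_adjoin_eq_top hgen
  rintro _ ⟨x, rfl⟩
  rw [AlgHom.comp_apply, hqm, ht]

end Lift

section Bi

variable {k : Type u} [Field k] {A : Type u} [CommRing A] [HopfAlgebra k A]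
variable {n : Type} [Fintype n] [DecidableEq n] {m : Matrix n n A}
variable {R : Type u} [CommRing R] [Algebra k R] {M : Type} [AddCommGroup M] [DecidableEq M]

/-- the matrix `∑ [a] E a` -/
noncomputable def QM (Λ : Finset M) (E : M → Matrix n n R) :
    Matrix n n (MonoidAlgebra R (Multiplicative M)) :=
  Matrix.of fun i j => ∑ a ∈ Λ, MonoidAlgebra.single (Multiplicative.ofAdd a) (E a i j)

theorem exists_bialgHom (hm : IsMult k m)
    (hgen : Algebra.adjoin k (Set.range fun x : n × n => m x.1 x.2) = ⊤)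
    (Λ : Finset M) (E : M → Matrix n n R)
    (hE : ∀ a ∈ Λ, ∀ b ∈ Λ, E a * E b = if a = b then E a else 0) (hE1 : ∑ a ∈ Λ, E a = 1)
    (q₀ : A →ₐ[k] MonoidAlgebra R (Multiplicative M)) (hq₀ : ∀ i j, q₀ (m i j) = QM Λ E i j) :
    ∃ q : R ⊗[k] A →ₐc[R] MonoidAlgebra R (Multiplicative M), ∀ a, q (1 ⊗ₜ a) = q₀ a := by
  let q₁ : R ⊗[k] A →ₐ[R] MonoidAlgebra R (Multiplicative M) :=
    Algebra.TensorProduct.lift (Algebra.ofId R _) q₀ (fun _ _ => Commute.all _ _)
  have hq₁ : ∀ a, q₁ (1 ⊗ₜ a) = q₀ a := by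
    intro a
    change Algebra.TensorProduct.lift (Algebra.ofId R _) q₀ _ (1 ⊗ₜ a) = _
    rw [Algebra.TensorProduct.lift_tmul, map_one, one_mul]
  refine ⟨BialgHom.ofAlgHom q₁ ?_ ?_, hq₁⟩
  · apply Algebra.TensorProduct.ext
    · ext
    · apply AlgHom.ext_of_adjoin_eq_top hgen
      rintro _ ⟨⟨i, j⟩, rfl⟩
      change Coalgebra.counit (R := R) (q₁ (1 ⊗ₜ m i j)) =
        Coalgebra.counit (R := R) ((1 : R) ⊗ₜ[k] m i j)
      rw [hq₁, hq₀, TensorProduct.counit_tmul, hm.counit, QM, Matrix.of_apply, map_sum,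
        Bialgebra.counit_one]
      have h1 := congrFun (congrFun hE1 i) j
      rw [Matrix.sum_apply, Matrix.one_apply] at h1
      simp only [MonoidAlgebra.counit_single, CommSemiring.counit_apply]
      rw [h1]
      split_ifs <;> simp
  · apply Algebra.TensorProduct.ext
    · ext
    · apply AlgHom.ext_of_adjoin_eq_top hgen
      rintro _ ⟨⟨i, j⟩, rfl⟩
      change Algebra.TensorProduct.map q₁ q₁ (Coalgebra.comul (R := R) ((1 : R) ⊗ₜ[k] m i j)) =
        Coalgebra.comul (R := R) (q₁ ((1 : R) ⊗ₜ[k] m i j))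
      rw [hq₁, hq₀, TensorProduct.comul_tmul, hm.comul, Bialgebra.comul_one,
        Algebra.TensorProduct.one_def, tmul_sum, map_sum, map_sum]
      simp only [TensorProduct.AlgebraTensorModule.tensorTensorTensorComm_tmul,
        Algebra.TensorProduct.map_tmul, hq₁, hq₀]
      have h1 : ∀ a : M, ∀ r : R, Coalgebra.comul (R := R)
          (MonoidAlgebra.single (Multiplicative.ofAdd a) r) =
          r • (MonoidAlgebra.single (Multiplicative.ofAdd a) (1 : R) ⊗ₜ[R]
            MonoidAlgebra.single (Multiplicative.ofAdd a) (1 : R)) := by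
        intro a r
        rw [MonoidAlgebra.comul_single, CommSemiring.comul_apply, TensorProduct.map_tmul]
        change MonoidAlgebra.single _ (1 : R) ⊗ₜ[R] MonoidAlgebra.single _ r = _
        rw [← TensorProduct.tmul_smul, MonoidAlgebra.smul_single, smul_eq_mul, mul_one]
      have h2 : ∀ a b : M, ∀ r s : R, MonoidAlgebra.single (Multiplicative.ofAdd a) r ⊗ₜ[R]
          MonoidAlgebra.single (Multiplicative.ofAdd b) s = (r * s) •
          (MonoidAlgebra.single (Multiplicative.ofAdd a) (1 : R) ⊗ₜ[R]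
            MonoidAlgebra.single (Multiplicative.ofAdd b) (1 : R)) := by
        intro a b r s
        rw [mul_smul, ← TensorProduct.tmul_smul, TensorProduct.smul_tmul', MonoidAlgebra.smul_single,
          MonoidAlgebra.smul_single, smul_eq_mul, mul_one, smul_eq_mul, mul_one]
      have h4 : ∀ l, QM Λ E i l ⊗ₜ[R] QM Λ E l j = ∑ a ∈ Λ, ∑ b ∈ Λ, (E a i l * E b l j) •
          (MonoidAlgebra.single (Multiplicative.ofAdd a) (1 : R) ⊗ₜ[R]
            MonoidAlgebra.single (Multiplicative.ofAdd b) (1 : R)) := by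
        intro l
        rw [QM, Matrix.of_apply, Matrix.of_apply, TensorProduct.sum_tmul]
        refine Finset.sum_congr rfl fun a _ => ?_
        rw [TensorProduct.tmul_sum]
        exact Finset.sum_congr rfl fun b _ => h2 a b _ _
      have h3 : ∀ a ∈ Λ, ∀ b ∈ Λ, ∑ l, (E a i l * E b l j) •
          (MonoidAlgebra.single (Multiplicative.ofAdd a) (1 : R) ⊗ₜ[R]
            MonoidAlgebra.single (Multiplicative.ofAdd b) (1 : R)) =
          (if a = b then E a i j else 0) •
          (MonoidAlgebra.single (Multiplicative.ofAdd a) (1 : R) ⊗ₜ[R]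
            MonoidAlgebra.single (Multiplicative.ofAdd b) (1 : R)) := by
        intro a ha b hb
        rw [← Finset.sum_smul, ← Matrix.mul_apply, hE a ha b hb]
        congr 1
        split_ifs <;> rfl
      rw [Finset.sum_congr rfl fun l _ => h4 l, Finset.sum_comm]
      rw [QM, Matrix.of_apply, map_sum]
      refine Finset.sum_congr rfl fun a ha => ?_
      rw [Finset.sum_comm, Finset.sum_congr rfl (h3 a ha), Finset.sum_eq_single a, if_pos rfl, h1]
      · intro b _ hab
        rw [if_neg (Ne.symm hab), zero_smul]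
      · exact fun h => absurd ha h

end Bi

section ExistsQ

variable {k : Type u} [Field k] [IsAlgClosed k] [CharZero k] [Uncountable k]
variable {A : Type u} [CommRing A] [HopfAlgebra k A] [Algebra.FiniteType k A]
variable {M : Type} [AddCommGroup M] [Module.Free ℤ M]
variable {p : A →ₐc[k] MonoidAlgebra k (Multiplicative M)}
variable {G1 : Subgroup (WithConv (A →ₐ[k] k[X]))}

open TorFam Groth.Agent.Sga3B.RootBC136

/-- an injective linear form on a finite set of weights -/
theorem exists_form {M : Type} [AddCommGroup M] [Module.Free ℤ M] [Module.Finite ℤ M]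
    (Λ : Finset M) : ∃ f : M →+ ℤ, Set.InjOn f Λ := by
  classical
  let b := Module.finBasis ℤ M
  let D : Finset (Fin (Module.finrank ℤ M) → ℤ) :=
    ((Λ ×ˢ Λ).image fun x => b.equivFun (x.1 - x.2)).filter (· ≠ 0)
  obtain ⟨l, hl⟩ := Groth.Agent.Sga3B.RG.exists_form_ne_zero _ D
    fun x hx => (Finset.mem_filter.mp hx).2
  refine ⟨l.comp b.equivFun.toLinearMap.toAddMonoidHom, fun x hx y hy hxy => ?_⟩
  by_contra hne
  have h1 : b.equivFun (x - y) ∈ D := by
    refine Finset.mem_filter.mpr ⟨Finset.mem_image.mpr ⟨(x, y), ?_, rfl⟩, ?_⟩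
    · exact Finset.mem_product.mpr ⟨hx, hy⟩
    · exact fun h => hne (sub_eq_zero.1 ((LinearEquiv.map_eq_zero_iff _).1 h))
  apply hl _ h1
  rw [map_sub, map_sub, sub_eq_zero]
  exact hxy

/-- **The homomorphism attached to a family of tori.** -/
theorem exists_q [Module.Finite ℤ M] (h : IsFam p G1) :
    ∃ q : k[X] ⊗[k] A →ₐc[k[X]] MonoidAlgebra k[X] (Multiplicative M),
      ∀ g ∈ G1, ∀ d : Multiplicative M →* kˣ, evPt 0 g = torPt p d →
        g = resPt k k[X] k[X] (torPt q (cd k d)) := by
  classical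
  obtain ⟨n, _, _, m, hm, hgen⟩ := TorWt.exists_gen k A
  obtain ⟨f, hf⟩ := exists_form (TorWt.wts m p)
  obtain ⟨E, hE, -, hE2⟩ := h.exists_idem hm f hf
  choose t ht htd using h.zero
  have key : ∀ (g : WithConv (A →ₐ[k] k[X])) (d : Multiplicative M →* kˣ), g ∈ G1 →
      evPt 0 g = torPt p d → ∀ i j, g.ofConv (m i j) =
        ((evT k[X] (cd k d)).restrictScalars k) (QM (TorWt.wts m p) E i j) := by
    intro g d hg hd i j
    rw [← TorWt.rep_apply hm, hE2 g hg d hd, Matrix.sum_apply, QM, Matrix.of_apply, map_sum]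
    refine Finset.sum_congr rfl fun a _ => ?_
    change _ = evT k[X] (cd k d) (MonoidAlgebra.single (Multiplicative.ofAdd a) (E a i j))
    rw [evT_single, Matrix.smul_apply, smul_eq_mul, smul_eq_mul, mul_comm]
    rfl
  obtain ⟨q₀, hq₀, hq₁⟩ := exists_lift hgen (QM (TorWt.wts m p) E)
    (fun d : Multiplicative M →* kˣ => (evT k[X] (cd k d)).restrictScalars k)
    (fun b hb => by
      apply evT_sep
      intro d
      rw [map_zero]
      exact hb d)
    (fun d => (t d).ofConv) (fun d i j => key (t d) d (ht d) (htd d) i j)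
  obtain ⟨q, hq⟩ := exists_bialgHom hm hgen _ E hE.mul hE.one q₀ hq₀
  refine ⟨q, ?_⟩
  intro g hg d hd
  apply WithConv.ofConv_injective
  apply AlgHom.ext_of_adjoin_eq_top hgen
  rintro _ ⟨⟨i, j⟩, rfl⟩
  rw [resPt_apply, torPt_apply, hq, hq₀]
  exact key g d hg hd i j

end ExistsQ

end K187.TorHom
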