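import Mathlib

/-!
# A valuation at infinity with countable value group

For a field `k` there is an algebraically closed field `Ω ⊇ k[X]` and a valuation subring `V` of `Ω`
with `V ∩ k[X] = k` and countable value group.
-/

set_option autoImplicit false

open Polynomial

namespace K187.ValInf

universe u

variable (k : Type u) [Field k]

/-- the algebraic closure of the field of rational functions -/
abbrev Om : Type u := AlgebraicClosure (FractionRing k[X])

theorem algebraMap_injective : Function.Injective (algebraMap k[X] (Om k)) := by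
  rw [IsScalarTower.algebraMap_eq k[X] (FractionRing k[X]) (Om k), RingHom.coe_comp]
  exact (algebraMap (FractionRing k[X]) (Om k)).injective.comp (IsFractionRing.injective _ _)

/-- the coordinate in `Om k` -/
noncomputable abbrev x : Om k := algebraMap k[X] (Om k) X

theorem aeval_x (f : k[X]) : aeval (x k) f = algebraMap k[X] (Om k) f := by
  have : (aeval (x k) : k[X] →ₐ[k] Om k) = IsScalarTower.toAlgHom k k[X] (Om k) := by
    apply Polynomial.algHom_ext
    rw [aeval_X]
    rfl
  rw [this]
  rfl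

theorem x_ne_zero : x k ≠ 0 := by
  intro h
  have := algebraMap_injective k (h.trans (map_zero _).symm)
  exact X_ne_zero this

theorem exists_valuationSubring : ∃ V : ValuationSubring (Om k),
    (∀ a : k, algebraMap k (Om k) a ∈ V) ∧ 1 < V.valuation (x k) := by
  let A := (Algebra.adjoin k {(x k)⁻¹}).toSubring
  have hx : (x k)⁻¹ ∈ A := Algebra.subset_adjoin (Set.mem_singleton _)
  let I : Ideal A := Ideal.span {⟨(x k)⁻¹, hx⟩}
  have hI : I ≠ ⊤ := by
    intro h
    rw [Ideal.span_singleton_eq_top] at h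
    obtain ⟨⟨u, hu⟩, h1⟩ := isUnit_iff_exists_inv.1 h
    have h2 : (x k)⁻¹ * u = 1 := congrArg Subtype.val h1
    have h3 : u ∈ Algebra.adjoin k {(x k)⁻¹} := hu
    rw [Algebra.adjoin_singleton_eq_range_aeval] at h3
    obtain ⟨f, hf⟩ := h3
    -- `x = f (x⁻¹)`; multiply with a power of `x`
    have h4 : u = x k := by
      rw [← mul_one (x k), ← h2, ← mul_assoc, mul_inv_cancel₀ (x_ne_zero k), one_mul]
    have h5 : aeval (x k)⁻¹ f = x k := hf.trans h4
    have h6 : aeval (x k) (reverse f) = x k ^ (f.natDegree + 1) := by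
      let _ : Invertible (x k)⁻¹ := invertibleOfNonzero (inv_ne_zero (x_ne_zero k))
      have h7 := Polynomial.eval₂_reverse_mul_pow (algebraMap k (Om k)) (x k)⁻¹ f
      rw [invOf_eq_inv, inv_inv] at h7
      change aeval (x k) (reverse f) * _ = aeval (x k)⁻¹ f at h7
      rw [h5] at h7
      have h8 : (x k)⁻¹ ^ f.natDegree * x k ^ f.natDegree = 1 := by
        rw [← mul_pow, inv_mul_cancel₀ (x_ne_zero k), one_pow]
      calc aeval (x k) (reverse f) = aeval (x k) (reverse f) *
            ((x k)⁻¹ ^ f.natDegree * x k ^ f.natDegree) := by rw [h8, mul_one]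
        _ = (aeval (x k) (reverse f) * (x k)⁻¹ ^ f.natDegree) * x k ^ f.natDegree := by ring
        _ = x k ^ (f.natDegree + 1) := by rw [h7, pow_succ']
    rw [aeval_x] at h6
    have h8 : reverse f = X ^ (f.natDegree + 1) := by
      apply algebraMap_injective k
      rw [h6, map_pow]
    have h9 := reverse_natDegree_le f
    rw [h8, natDegree_X_pow] at h9
    omega
  obtain ⟨V, hV1, hV2⟩ := Ideal.image_subset_nonunits_valuationSubring I hI
  refine ⟨V, fun a => hV1 (Subalgebra.algebraMap_mem _ a), ?_⟩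
  have h1 : (x k)⁻¹ ∈ V.nonunits := hV2 ⟨⟨(x k)⁻¹, hx⟩, Ideal.subset_span rfl, rfl⟩
  rw [ValuationSubring.mem_nonunits_iff, map_inv₀] at h1
  exact (inv_lt_one₀ (zero_lt_iff.2 ((Valuation.ne_zero_iff _).2 (x_ne_zero k)))).1 h1


variable {k}

section

variable (V : ValuationSubring (Om k)) (hV : ∀ a : k, algebraMap k (Om k) a ∈ V)
  (hx : 1 < V.valuation (x k))

include hV in
theorem isTrivialOn : V.valuation.IsTrivialOn k where
  eq_one a ha := by
    apply le_antisymm ((ValuationSubring.valuation_le_one_iff _ _).2 (hV a))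
    have h1 := (ValuationSubring.valuation_le_one_iff _ _).2 (hV a⁻¹)
    rw [map_inv₀, map_inv₀] at h1
    have h2 : 0 < V.valuation (algebraMap k (Om k) a) :=
      zero_lt_iff.2 ((Valuation.ne_zero_iff _).2 ((_root_.map_ne_zero _).2 ha))
    exact (inv_le_one₀ h2).1 h1

include hV hx in
theorem valuation_algebraMap {f : k[X]} (hf : f ≠ 0) :
    V.valuation (algebraMap k[X] (Om k) f) = V.valuation (x k) ^ f.natDegree := by
  have := isTrivialOn V hV
  rw [← aeval_x]
  exact valuation_aeval_eq_valuation_X_pow_natDegree_of_one_lt_valuation_X _ hx hf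

include hV hx in
/-- `V ∩ k[X] = k` -/
theorem natDegree_eq_zero_of_mem {f : k[X]} (hf : algebraMap k[X] (Om k) f ∈ V) :
    f.natDegree = 0 := by
  by_cases h0 : f = 0
  · rw [h0, natDegree_zero]
  by_contra hd
  have h1 := (ValuationSubring.valuation_le_one_iff _ _).2 hf
  rw [valuation_algebraMap V hV hx h0] at h1
  exact absurd h1 (not_le.2 (one_lt_pow₀ hx hd))

include hV hx in
theorem exists_pow_eq {a : Om k} (ha : a ≠ 0) : ∃ m d e : ℕ, m ≠ 0 ∧
    V.valuation a ^ m * V.valuation (x k) ^ d = V.valuation (x k) ^ e := by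
  classical
  have halg : IsAlgebraic k[X] a :=
    (IsFractionRing.isAlgebraic_iff k[X] (FractionRing k[X]) (Om k)).2
      (Algebra.IsAlgebraic.isAlgebraic a)
  obtain ⟨P, hP0, hP⟩ := halg
  by_contra hcon
  push Not at hcon
  set v := V.valuation
  have hva : v a ≠ 0 := (Valuation.ne_zero_iff _).2 ha
  have hvx : v (x k) ≠ 0 := (Valuation.ne_zero_iff _).2 (x_ne_zero k)
  let t : ℕ → Om k := fun i => algebraMap k[X] (Om k) (P.coeff i) * a ^ i
  have ht : ∀ i ∈ P.support, v (t i) = v (x k) ^ (P.coeff i).natDegree * v a ^ i := by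
    intro i hi
    rw [map_mul, map_pow, valuation_algebraMap V hV hx (mem_support_iff.1 hi)]
  have ht0 : ∀ i ∈ P.support, v (t i) ≠ 0 := by
    intro i hi
    rw [ht i hi]
    exact mul_ne_zero (pow_ne_zero _ hvx) (pow_ne_zero _ hva)
  have hinj : ∀ i ∈ P.support, ∀ j ∈ P.support, i < j → v (t i) ≠ v (t j) := by
    intro i hi j hj hij h
    rw [ht i hi, ht j hj] at h
    apply hcon (j - i) (P.coeff j).natDegree (P.coeff i).natDegree (by omega)
    have h1 : v a ^ j = v a ^ (j - i) * v a ^ i := by rw [← pow_add]; congr 1; omega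
    rw [h1, ← mul_assoc] at h
    have h2 := mul_right_cancel₀ (pow_ne_zero i hva) h
    rw [h2, mul_comm]
  obtain ⟨j, hj, hmax⟩ := Finset.exists_max_image P.support (fun i => v (t i))
    (support_nonempty.2 hP0)
  have h1 : v (∑ i ∈ P.support, t i) = v (t j) := by
    apply Valuation.map_sum_eq_of_lt v hj
    intro i hi
    rw [Finset.mem_sdiff, Finset.mem_singleton] at hi
    refine lt_of_le_of_ne (hmax i hi.1) ?_
    rcases lt_or_gt_of_ne hi.2 with h | h
    · exact hinj i hi.1 j hj h
    · exact (hinj j hj i hi.1 h).symm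
  have h2 : ∑ i ∈ P.support, t i = 0 := by
    rw [← hP, aeval_def, eval₂_eq_sum, Polynomial.sum_def]
  rw [h2, map_zero] at h1
  exact ht0 j hj h1.symm

include hV hx in
theorem countable_valueGroup : Countable V.ValueGroup := by
  classical
  have key : ∀ γ : V.ValueGroup, ∃ n : Option (ℕ × ℕ × ℕ), ∀ γ' : V.ValueGroup,
      (n = none ↔ γ = 0) ∧ (∀ m d e : ℕ, n = some (m, d, e) →
        m ≠ 0 ∧ γ ^ m * V.valuation (x k) ^ d = V.valuation (x k) ^ e) := by
    intro γ
    by_cases hγ : γ = 0
    · exact ⟨none, fun _ => ⟨by simp [hγ], fun m d e h => by simp at h⟩⟩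
    · obtain ⟨a, rfl⟩ := V.valuation_surjective γ
      obtain ⟨m, d, e, hm, h⟩ := exists_pow_eq V hV hx ((Valuation.ne_zero_iff _).1 hγ)
      exact ⟨some (m, d, e), fun _ => ⟨by simp [hγ], fun m' d' e' h' => by
        simp only [Option.some.injEq, Prod.mk.injEq] at h'
        obtain ⟨rfl, rfl, rfl⟩ := h'
        exact ⟨hm, h⟩⟩⟩
  choose f hf using key
  have hvx : V.valuation (x k) ≠ 0 := (Valuation.ne_zero_iff _).2 (x_ne_zero k)
  refine Function.Injective.countable (f := f) ?_
  intro γ γ' h
  rcases hn : f γ with _ | ⟨m, d, e⟩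
  · rw [((hf γ 0).1).1 hn, ((hf γ' 0).1).1 (h ▸ hn)]
  · obtain ⟨h1, h2⟩ := (hf γ 0).2 m d e hn
    obtain ⟨-, h4⟩ := (hf γ' 0).2 m d e (h ▸ hn)
    have h5 : γ ^ m = γ' ^ m := mul_right_cancel₀ (pow_ne_zero d hvx) (h2.trans h4.symm)
    exact (pow_left_inj₀ zero_le zero_le h1).1 h5

end

end K187.ValInf
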