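import Groth.Agent.MadRed.K187.ConstPoly

/-!
# Families of diagonalizable groups of matrices over the affine line

`k` an uncountable algebraically closed field of characteristic zero, `T` a group of matrices over
`k[X]` whose value at every `s` is conjugate to the same diagonalizable group of matrices
`{∑ χ(d) P χ}`: there are orthogonal idempotents `E χ` over `k[X]` with `t = ∑ χ(t(0)) E χ`.
-/

set_option autoImplicit false

open Polynomial

namespace K187.WeightMat

universe u

section Idem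

variable {k : Type u} [Field k] {B : Type*} [Ring B] [Algebra k B] {M : Type*} [DecidableEq M]

/-- `∑ c(a) P(a)` -/
def dg (Λ : Finset M) (P : M → B) (c : M → k) : B := ∑ a ∈ Λ, c a • P a

/-- a decomposition of `1` into nonzero orthogonal idempotents indexed by `Λ` -/
structure Dec (Λ : Finset M) (P : M → B) : Prop where
  mul : ∀ a ∈ Λ, ∀ b ∈ Λ, P a * P b = if a = b then P a else 0
  one : ∑ a ∈ Λ, P a = 1
  ne : ∀ a ∈ Λ, P a ≠ 0

variable {Λ : Finset M} {P : M → B}

theorem Dec.dg_mul_P (h : Dec Λ P) (c : M → k) {b : M} (hb : b ∈ Λ) :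
    dg Λ P c * P b = c b • P b := by
  rw [dg, Finset.sum_mul, Finset.sum_eq_single b]
  · rw [smul_mul_assoc, h.mul b hb b hb, if_pos rfl]
  · intro a ha hab
    rw [smul_mul_assoc, h.mul a ha b hb, if_neg hab, smul_zero]
  · intro h1
    exact absurd hb h1

theorem Dec.dg_mul (h : Dec Λ P) (c c' : M → k) :
    dg Λ P c * dg Λ P c' = dg Λ P (fun a => c a * c' a) := by
  conv_lhs => rw [dg.eq_def Λ P c', Finset.mul_sum]
  conv_rhs => rw [dg]
  refine Finset.sum_congr rfl fun b hb => ?_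
  rw [mul_smul_comm, h.dg_mul_P c hb, smul_smul, mul_comm]

theorem Dec.dg_one (h : Dec Λ P) : dg Λ P (fun _ => (1 : k)) = 1 := by
  rw [dg, ← h.one]
  exact Finset.sum_congr rfl fun _ _ => one_smul _ _

omit [DecidableEq M] in
theorem dg_congr {c c' : M → k} (h : ∀ a ∈ Λ, c a = c' a) : dg Λ P c = dg Λ P c' :=
  Finset.sum_congr rfl fun a ha => by rw [h a ha]

theorem dg_single {b : M} (hb : b ∈ Λ) :
    dg Λ P (fun a => if a = b then (1 : k) else 0) = P b := by
  rw [dg, Finset.sum_eq_single b]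
  · rw [if_pos rfl, one_smul]
  · intro a _ hab
    rw [if_neg hab, zero_smul]
  · intro h1
    exact absurd hb h1

theorem Dec.aeval_dg (h : Dec Λ P) (c : M → k) (f : k[X]) :
    aeval (dg Λ P c) f = dg Λ P (fun a => f.eval (c a)) := by
  induction f using Polynomial.induction_on with
  | C x =>
    rw [aeval_C, Algebra.algebraMap_eq_smul_one, ← h.one, Finset.smul_sum, dg]
    exact Finset.sum_congr rfl fun a _ => by rw [eval_C]
  | add p q hp hq =>
    rw [map_add, hp, hq, dg, dg, dg, ← Finset.sum_add_distrib]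
    exact Finset.sum_congr rfl fun a _ => by rw [eval_add, add_smul]
  | monomial n x hn =>
    rw [pow_succ, ← mul_assoc, map_mul, hn, aeval_X, h.dg_mul]
    exact dg_congr fun a _ => by rw [eval_mul_X]

theorem Dec.dg_sub_algebraMap (h : Dec Λ P) (c : M → k) (x : k) :
    algebraMap k B x - dg Λ P c = dg Λ P (fun a => x - c a) := by
  rw [Algebra.algebraMap_eq_smul_one, ← h.one, Finset.smul_sum, dg, dg, ← Finset.sum_sub_distrib]
  exact Finset.sum_congr rfl fun a _ => by rw [sub_smul]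

theorem Dec.isUnit_sub_iff (h : Dec Λ P) (c : M → k) (x : k) :
    IsUnit (algebraMap k B x - dg Λ P c) ↔ ∀ a ∈ Λ, c a ≠ x := by
  rw [h.dg_sub_algebraMap]
  constructor
  · rintro hu a ha rfl
    apply h.ne a ha
    rw [← hu.mul_right_eq_zero, h.dg_mul_P _ ha, sub_self, zero_smul]
  · intro h1
    rw [isUnit_iff_exists]
    refine ⟨dg Λ P fun a => (x - c a)⁻¹, ?_, ?_⟩
    · rw [h.dg_mul, ← h.dg_one (k := k)]
      exact dg_congr fun a ha => mul_inv_cancel₀ (sub_ne_zero.2 (h1 a ha).symm)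
    · rw [h.dg_mul, ← h.dg_one (k := k)]
      exact dg_congr fun a ha => inv_mul_cancel₀ (sub_ne_zero.2 (h1 a ha).symm)

/-- `dg` determines the coefficients -/
theorem Dec.dg_inj (h : Dec Λ P) {c c' : M → k} (hcc : dg Λ P c = dg Λ P c') {a : M} (ha : a ∈ Λ) :
    c a = c' a := by
  have h1 := h.dg_mul_P c ha
  rw [hcc, h.dg_mul_P c' ha] at h1
  have := smul_left_injective k (h.ne a ha) h1
  exact this.symm

end Idem

section Mat

variable {k : Type u} [Field k] {M : Type*} [DecidableEq M] {n : Type} [Fintype n] [DecidableEq n]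
variable {Λ : Finset M} {P : M → Matrix n n k}

theorem Dec.isRoot_charpoly (h : Dec Λ P) (c : M → k) (x : k) :
    (dg Λ P c).charpoly.IsRoot x ↔ ∃ a ∈ Λ, c a = x := by
  rw [IsRoot, Matrix.eval_charpoly, ← not_iff_not, ← ne_eq, ← isUnit_iff_ne_zero,
    ← Matrix.isUnit_iff_isUnit_det]
  have := h.isUnit_sub_iff c x
  push Not
  exact this

theorem aeval_units_conj (g : (Matrix n n k)ˣ) (N : Matrix n n k) (f : k[X]) :
    aeval (g.val * N * g⁻¹.val) f = g.val * aeval N f * g⁻¹.val := by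
  induction f using Polynomial.induction_on with
  | C x =>
    rw [aeval_C, aeval_C, Algebra.algebraMap_eq_smul_one, mul_smul_comm, mul_one, smul_mul_assoc,
      Units.mul_inv]
  | add p q hp hq => rw [map_add, map_add, hp, hq, mul_add, add_mul]
  | monomial m x hm =>
    rw [pow_succ, ← mul_assoc, map_mul, hm, aeval_X, map_mul (aeval N) (C x * X ^ m),
      aeval_X]
    simp only [mul_assoc]
    rw [← mul_assoc g⁻¹.val, Units.inv_mul, one_mul]

/-- evaluation of matrices over `k[X]` -/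
noncomputable def ev (s : k) : Matrix n n k[X] →ₐ[k] Matrix n n k :=
  (Polynomial.aeval s : k[X] →ₐ[k] k).mapMatrix

theorem ev_apply (s : k) (N : Matrix n n k[X]) (i j : n) : ev s N i j = (N i j).eval s := by
  change Polynomial.aeval s (N i j) = _
  rw [Polynomial.coe_aeval_eq_eval]

theorem ev_ext [Infinite k] {N N' : Matrix n n k[X]} (h : ∀ s : k, ev s N = ev s N') : N = N' := by
  ext1 i j
  apply Polynomial.funext
  intro s
  rw [← ev_apply, h, ev_apply]

theorem ev_smul (s : k) (f : k[X]) (N : Matrix n n k[X]) : ev s (f • N) = f.eval s • ev s N := by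
  ext i j
  rw [ev_apply, Matrix.smul_apply, Matrix.smul_apply, ev_apply, smul_eq_mul, eval_mul, smul_eq_mul]

theorem ev_charpoly (s : k) (N : Matrix n n k[X]) :
    (ev s N).charpoly = N.charpoly.map (Polynomial.evalRingHom s) := by
  rw [← Matrix.charpoly_map]
  congr 1

theorem ev_trace (s : k) (N : Matrix n n k[X]) : (ev s N).trace = N.trace.eval s := by
  rw [Matrix.trace, Matrix.trace, eval_finsetSum]
  exact Finset.sum_congr rfl fun i _ => ev_apply s N i i

theorem trace_ne_zero [CharZero k] {e : Matrix n n k} (he : e * e = e) (h0 : e ≠ 0) :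
    e.trace ≠ 0 := by
  intro h
  apply h0
  have h1 : IsIdempotentElem (Matrix.toLin' e) := by
    change Matrix.toLin' e ∘ₗ Matrix.toLin' e = Matrix.toLin' e
    rw [← Matrix.toLin'_mul, he]
  have h2 := (LinearMap.IsIdempotentElem.trace_eq_zero_iff h1).1 (by
    rw [Matrix.trace_toLin'_eq, h])
  exact (LinearEquiv.map_eq_zero_iff _).1 h2

end Mat

section Main

variable {k : Type u} [Field k] [IsAlgClosed k] [CharZero k] [Uncountable k]
  {M : Type*} [AddCommGroup M] [DecidableEq M] {n : Type} [Fintype n] [DecidableEq n]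
variable {Λ : Finset M} {P : M → Matrix n n k}

/-- a nonzero power map cannot be constant on uncountable sets -/
theorem exists_same_fibre {Γ : Type*} [Countable Γ] (v : kˣ → Γ) :
    ∃ z w : kˣ, v z = v w ∧ ∀ m : ℕ, m ≠ 0 → (z * w⁻¹) ^ m ≠ 1 := by
  by_contra hcon
  push Not at hcon
  -- the roots of unity are countable
  let μ : Set kˣ := ⋃ m : ℕ, {z : kˣ | m ≠ 0 ∧ z ^ m = 1}
  have hμ : μ.Countable := by
    refine Set.countable_iUnion fun m => ?_
    by_cases hm : m = 0
    · simp [hm]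
    · have : Set.Finite {z : kˣ | m ≠ 0 ∧ z ^ m = 1} := by
        have : NeZero m := ⟨hm⟩
        refine Set.Finite.subset (s := ((rootsOfUnity m k : Subgroup kˣ) : Set kˣ)) ?_ ?_
        · exact @Set.toFinite _ _ (inferInstanceAs (Finite (rootsOfUnity m k)))
        · rintro z ⟨-, hz⟩
          exact (mem_rootsOfUnity m z).2 hz
      exact this.countable
  have h1 : ∀ γ : Γ, (v ⁻¹' {γ}).Countable := by
    intro γ
    rcases (v ⁻¹' {γ}).eq_empty_or_nonempty with h | ⟨w, hw⟩
    · rw [h]; exact Set.countable_empty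
    · refine Set.Countable.mono ?_ (hμ.image fun z => z * w)
      intro z hz
      obtain ⟨m, hm, h2⟩ := hcon z w (hz.trans hw.symm)
      exact ⟨z * w⁻¹, Set.mem_iUnion.2 ⟨m, hm, h2⟩, inv_mul_cancel_right z w⟩
  have h2 : (Set.univ : Set kˣ).Countable := by
    have : (Set.univ : Set kˣ) = ⋃ γ : Γ, v ⁻¹' {γ} := by
      ext z
      simp
    rw [this]
    exact Set.countable_iUnion h1
  have h3 : (Set.univ : Set k).Countable := by
    refine Set.Countable.mono ?_ ((h2.image (fun z : kˣ => (z : k))).union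
      (Set.countable_singleton (0 : k)))
    intro z _
    by_cases hz : z = 0
    · right; exact hz
    · left; exact ⟨Units.mk0 z hz, trivial, rfl⟩
  exact Set.not_countable_univ h3

variable {G : Type*} [Group G] (ρ : G →* Matrix n n k[X])

/-- the hypotheses on a family of diagonalizable groups -/
structure Fam (Λ : Finset M) (P : M → Matrix n n k) (ρ : G →* Matrix n n k[X]) : Prop where
  dec : Dec Λ P
  comm : ∀ g g' : G, ρ g * ρ g' = ρ g' * ρ g
  fib : ∀ s : k, ∃ h : (Matrix n n k)ˣ, ∀ g : G, ∃ c : M → k,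
    ev s (ρ g) = h.val * dg Λ P c * h⁻¹.val
  zero : ∀ d : Multiplicative M →* kˣ, ∃ g : G,
    ev 0 (ρ g) = dg Λ P fun a => (d (Multiplicative.ofAdd a) : k)

variable {ρ}

theorem Fam.exists_generic (hF : Fam Λ P ρ) (f : M →+ ℤ) (hf : Set.InjOn f Λ) :
    ∃ (g : G) (c : M → k), Set.InjOn c Λ ∧ ev 0 (ρ g) = dg Λ P c ∧
      ∀ i, ((ρ g).charpoly.coeff i).natDegree = 0 := by
  obtain ⟨Γ, _, _, v, hv⟩ := ConstPoly.exists_countable ρ hF.comm
  let d : kˣ → (Multiplicative M →* kˣ) := fun z =>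
    (zpowersHom kˣ z).comp (AddMonoidHom.toMultiplicative f)
  have hd : ∀ (z : kˣ) (a : M), d z (Multiplicative.ofAdd a) = z ^ (f a) := fun z a => rfl
  choose t ht using fun z => hF.zero (d z)
  obtain ⟨z, w, hzw, hne⟩ := exists_same_fibre fun z => v (t z)
  have hw : ev 0 (ρ (t w)⁻¹) = dg Λ P fun a => (((w⁻¹) ^ (f a) : kˣ) : k) := by
    have h1 : ev 0 (ρ (t w)⁻¹) * ev 0 (ρ (t w)) = 1 := by
      rw [← map_mul, ← map_mul, inv_mul_cancel, map_one, map_one]
    have h2 : ev 0 (ρ (t w)) * dg Λ P (fun a => (((w⁻¹) ^ (f a) : kˣ) : k)) = 1 := by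
      rw [ht, hF.dec.dg_mul, ← hF.dec.dg_one (k := k)]
      refine dg_congr fun a _ => ?_
      rw [hd, ← Units.val_mul, inv_zpow, mul_inv_cancel, Units.val_one]
    calc ev 0 (ρ (t w)⁻¹) = ev 0 (ρ (t w)⁻¹) * (ev 0 (ρ (t w)) *
          dg Λ P (fun a => (((w⁻¹) ^ (f a) : kˣ) : k))) := by rw [h2, mul_one]
      _ = _ := by rw [← mul_assoc, h1, one_mul]
  refine ⟨t z * (t w)⁻¹, fun a => (((z * w⁻¹) ^ (f a) : kˣ) : k), ?_, ?_, ?_⟩
  · intro a ha b hb hab
    apply hf ha hb
    have h1 : (z * w⁻¹) ^ f a = (z * w⁻¹) ^ f b := Units.ext hab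
    by_contra hne'
    have h2 : (z * w⁻¹) ^ (f a - f b) = 1 := by
      rw [zpow_sub, h1, mul_inv_cancel]
    have h3 : (z * w⁻¹) ^ (f a - f b).natAbs = 1 := by
      rcases Int.natAbs_eq (f a - f b) with h | h
      · rw [h, zpow_natCast] at h2
        simpa using h2
      · rw [h, zpow_neg, zpow_natCast, inv_eq_one] at h2
        simpa using h2
    exact hne _ (by omega) h3
  · rw [map_mul, map_mul, ht, hw, hF.dec.dg_mul]
    refine dg_congr fun a _ => ?_
    rw [hd, ← Units.val_mul, mul_zpow]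
  · apply hv
    rw [map_mul, map_inv, hzw, mul_inv_cancel]

/-- The idempotents: values at all points. -/
theorem Fam.exists_idem (hF : Fam Λ P ρ) (f : M →+ ℤ) (hf : Set.InjOn f Λ) :
    ∃ E : M → Matrix n n k[X], (∀ b ∈ Λ, ev 0 (E b) = P b) ∧
      ∀ s : k, ∃ (h : (Matrix n n k)ˣ) (π : M → M), (∀ b ∈ Λ, π b ∈ Λ) ∧ Set.InjOn π Λ ∧
        (∀ b ∈ Λ, ev s (E b) = h.val * P (π b) * h⁻¹.val) ∧
        ∀ g : G, ∃ c : M → k, ev s (ρ g) = h.val * dg Λ P c * h⁻¹.val := by
  classical
  obtain ⟨g₁, c₁, hc₁, hg₁, hconst⟩ := hF.exists_generic f hf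
  let L : M → k[X] := fun b => Lagrange.basis Λ c₁ b
  have hL : ∀ a ∈ Λ, ∀ b ∈ Λ, (L b).eval (c₁ a) = if a = b then 1 else 0 := by
    intro a ha b hb
    by_cases hab : a = b
    · subst hab
      rw [if_pos rfl]
      exact Lagrange.eval_basis_self hc₁ ha
    · rw [if_neg hab]
      exact Lagrange.eval_basis_of_ne (Ne.symm hab) ha
  refine ⟨fun b => aeval (ρ g₁) (L b), ?_, ?_⟩
  · intro b hb
    change ev 0 (aeval (ρ g₁) (L b)) = P b
    rw [← Polynomial.aeval_algHom_apply, hg₁, hF.dec.aeval_dg,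
      ← dg_single (k := k) (P := P) hb]
    exact dg_congr fun a ha => hL a ha b hb
  · intro s
    obtain ⟨h, hh⟩ := hF.fib s
    obtain ⟨c', hc'⟩ := hh g₁
    -- the eigenvalues of `ρ g₁` at `s` and `0` agree
    have hchar : (ev s (ρ g₁)).charpoly = (ev 0 (ρ g₁)).charpoly := by
      rw [ev_charpoly, ev_charpoly]
      ext i
      rw [coeff_map, coeff_map, Polynomial.eq_C_of_natDegree_eq_zero (hconst i)]
      simp
    have hset : ∀ x : k, (∃ a ∈ Λ, c' a = x) ↔ ∃ a ∈ Λ, c₁ a = x := by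
      intro x
      rw [← hF.dec.isRoot_charpoly c' x, ← hF.dec.isRoot_charpoly c₁ x, ← hg₁, ← hchar, hc',
        Matrix.coe_units_inv, Matrix.charpoly_units_conj]
    have himg : Λ.image c' = Λ.image c₁ := by
      ext x
      rw [Finset.mem_image, Finset.mem_image]
      exact hset x
    have hc'inj : Set.InjOn c' Λ := by
      rw [← Finset.card_image_iff, himg, Finset.card_image_iff]
      exact hc₁
    have hπ : ∀ b : M, ∃ b' : M, b ∈ Λ → b' ∈ Λ ∧ c' b' = c₁ b := by
      intro b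
      by_cases hb : b ∈ Λ
      · obtain ⟨b', h1, h2⟩ := (hset (c₁ b)).2 ⟨b, hb, rfl⟩
        exact ⟨b', fun _ => ⟨h1, h2⟩⟩
      · exact ⟨b, fun h => absurd h hb⟩
    choose π hπ using hπ
    refine ⟨h, π, fun b hb => (hπ b hb).1, ?_, ?_, hh⟩
    · intro a ha b hb hab
      apply hc₁ ha hb
      rw [← (hπ a ha).2, hab, (hπ b hb).2]
    · intro b hb
      change ev s (aeval (ρ g₁) (L b)) = _
      rw [← Polynomial.aeval_algHom_apply, hc', aeval_units_conj, hF.dec.aeval_dg,
        ← dg_single (k := k) (P := P) (hπ b hb).1]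
      congr 2
      refine dg_congr fun a ha => ?_
      obtain ⟨a', ha', haa⟩ := (hset (c' a)).1 ⟨a, ha, rfl⟩
      rw [← haa, hL a' ha' b hb]
      by_cases hab : a = π b
      · rw [if_pos hab, if_pos]
        apply hc₁ ha' hb
        rw [haa, hab, (hπ b hb).2]
      · rw [if_neg hab, if_neg]
        rintro rfl
        apply hab
        apply hc'inj ha (hπ a' hb).1
        rw [← haa, (hπ a' hb).2]

/-- **Families of diagonalizable groups over the line are constant up to idempotents.** -/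
theorem Fam.main (hF : Fam Λ P ρ) (f : M →+ ℤ) (hf : Set.InjOn f Λ) :
    ∃ E : M → Matrix n n k[X], Dec Λ E ∧ (∀ b ∈ Λ, ev 0 (E b) = P b) ∧
      ∀ (g : G) (c : M → k), ev 0 (ρ g) = dg Λ P c → ρ g = ∑ b ∈ Λ, (C (c b) : k[X]) • E b := by
  classical
  have : Infinite k := IsAlgClosed.instInfinite
  obtain ⟨E, hE0, hE⟩ := hF.exists_idem f hf
  have hEdec : Dec Λ E := by
    refine ⟨?_, ?_, ?_⟩
    · intro a ha b hb
      apply ev_ext
      intro s
      obtain ⟨h, π, hπ1, hπ2, h1, -⟩ := hE s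
      rw [map_mul, h1 a ha, h1 b hb]
      have h2 : h.val * P (π a) * h⁻¹.val * (h.val * P (π b) * h⁻¹.val) =
          h.val * (P (π a) * P (π b)) * h⁻¹.val := by
        simp only [mul_assoc]
        rw [← mul_assoc h⁻¹.val, Units.inv_mul, one_mul]
      rw [h2, hF.dec.mul _ (hπ1 a ha) _ (hπ1 b hb)]
      by_cases hab : a = b
      · rw [if_pos hab, if_pos (congrArg π hab), h1 a ha]
      · rw [if_neg hab, if_neg, mul_zero, zero_mul, map_zero]
        exact fun h3 => hab (hπ2 ha hb h3)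
    · apply ev_ext
      intro s
      obtain ⟨h, π, hπ1, hπ2, h1, -⟩ := hE s
      rw [map_sum, map_one, Finset.sum_congr rfl h1, ← Finset.sum_mul, ← Finset.mul_sum]
      have h3 : Λ.image π = Λ := by
        apply Finset.eq_of_subset_of_card_le
        · intro x hx
          obtain ⟨b, hb, rfl⟩ := Finset.mem_image.1 hx
          exact hπ1 b hb
        · rw [Finset.card_image_iff.2 hπ2]
      have h2 : ∑ b ∈ Λ, P (π b) = 1 := by
        rw [← Finset.sum_image (f := P) (s := Λ) (g := π) hπ2, h3, hF.dec.one]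
      rw [h2, mul_one, Units.mul_inv]
    · intro b hb h0
      apply hF.dec.ne b hb
      rw [← hE0 b hb, h0, map_zero]
  refine ⟨E, hEdec, hE0, ?_⟩
  -- the traces of the idempotents are nonzero constants
  have htr : ∀ b ∈ Λ, ∀ s : k, (E b).trace.eval s ≠ 0 := by
    intro b hb s
    obtain ⟨h, π, hπ1, hπ2, h1, -⟩ := hE s
    rw [← ev_trace, h1 b hb]
    apply trace_ne_zero
    · have h2 : h.val * P (π b) * h⁻¹.val * (h.val * P (π b) * h⁻¹.val) =
          h.val * (P (π b) * P (π b)) * h⁻¹.val := by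
        simp only [mul_assoc]
        rw [← mul_assoc h⁻¹.val, Units.inv_mul, one_mul]
      rw [h2, hF.dec.mul _ (hπ1 b hb) _ (hπ1 b hb), if_pos rfl]
    · intro h0
      apply hF.dec.ne _ (hπ1 b hb)
      calc P (π b) = h⁻¹.val * (h.val * P (π b) * h⁻¹.val) * h.val := by
            simp only [mul_assoc]
            rw [Units.inv_mul, mul_one, ← mul_assoc, Units.inv_mul, one_mul]
        _ = 0 := by rw [h0, mul_zero, zero_mul]
  have hconst : ∀ b ∈ Λ, ∃ κ : k, κ ≠ 0 ∧ (E b).trace = C κ := by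
    intro b hb
    by_cases hd : (E b).trace.degree = 0
    · refine ⟨_, ?_, Polynomial.eq_C_of_degree_eq_zero hd⟩
      intro h0
      apply htr b hb 0
      rw [Polynomial.eq_C_of_degree_eq_zero hd, h0, map_zero, eval_zero]
    · obtain ⟨s, hs⟩ := IsAlgClosed.exists_root _ hd
      exact absurd hs (htr b hb s)
  -- the eigenvalues
  have heig : ∀ b ∈ Λ, ∀ g : G, ∃ l : k[X], ρ g * E b = l • E b := by
    intro b hb g
    obtain ⟨κ, hκ, hκE⟩ := hconst b hb
    refine ⟨C κ⁻¹ * (ρ g * E b).trace, ?_⟩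
    apply ev_ext
    intro s
    obtain ⟨h, π, hπ1, hπ2, h1, h2⟩ := hE s
    obtain ⟨c, hc⟩ := h2 g
    have h3 : ev s (ρ g) * ev s (E b) = c (π b) • ev s (E b) := by
      rw [hc, h1 b hb]
      have h4 : h.val * dg Λ P c * h⁻¹.val * (h.val * P (π b) * h⁻¹.val) =
          h.val * (dg Λ P c * P (π b)) * h⁻¹.val := by
        simp only [mul_assoc]
        rw [← mul_assoc h⁻¹.val, Units.inv_mul, one_mul]
      rw [h4, hF.dec.dg_mul_P c (hπ1 b hb), mul_smul_comm, smul_mul_assoc]
    rw [map_mul, ev_smul, h3, eval_mul, ← ev_trace, map_mul, h3, Matrix.trace_smul, ev_trace, hκE,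
      eval_C, eval_C, smul_eq_mul, mul_comm (c (π b)), ← mul_assoc, inv_mul_cancel₀ hκ, one_mul]
  have hEinj : ∀ b ∈ Λ, ∀ l l' : k[X], l • E b = l' • E b → l = l' := by
    intro b hb l l' hll
    obtain ⟨κ, hκ, hκE⟩ := hconst b hb
    have h1 := congrArg Matrix.trace hll
    rw [Matrix.trace_smul, Matrix.trace_smul, hκE, smul_eq_mul, smul_eq_mul] at h1
    exact mul_right_cancel₀ (by rwa [Ne, C_eq_zero]) h1
  have hunit : ∀ b ∈ Λ, ∀ (g : G) (l : k[X]), ρ g * E b = l • E b → ∃ x : k, l = C x := by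
    intro b hb g l hl
    obtain ⟨l', hl'⟩ := heig b hb g⁻¹
    have h1 : (l' * l) • E b = (1 : k[X]) • E b := by
      rw [mul_comm, mul_smul, ← hl', ← mul_smul_comm, ← hl, ← mul_assoc, ← map_mul,
        inv_mul_cancel, map_one, one_mul, one_smul]
    have h2 := hEinj b hb _ _ h1
    have h3 : IsUnit l := IsUnit.of_mul_eq_one_right _ h2
    obtain ⟨x, -, hx⟩ := Polynomial.isUnit_iff.1 h3
    exact ⟨x, hx.symm⟩
  intro g c hc
  have h1 : ∀ b ∈ Λ, ρ g * E b = (C (c b) : k[X]) • E b := by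
    intro b hb
    obtain ⟨l, hl⟩ := heig b hb g
    obtain ⟨x, rfl⟩ := hunit b hb g l hl
    have h2 := congrArg (ev 0) hl
    rw [map_mul, ev_smul, hc, hE0 b hb, hF.dec.dg_mul_P c hb, eval_C] at h2
    have h3 : c b = x := smul_left_injective k (hF.dec.ne b hb) h2
    rw [hl, h3]
  calc ρ g = ρ g * ∑ b ∈ Λ, E b := by rw [hEdec.one, mul_one]
    _ = _ := by rw [Finset.mul_sum, Finset.sum_congr rfl h1]

end Main

end K187.WeightMat
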